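import Cfsg.Agent.Lib.FusionControl.Engine

/-!
# The control theorem with an invariant

A variant of `CfsgLib.FusionControl.control`: the choice only has to be invariant under elements of
`S`, and the pairs `(T, Z)` met in the induction satisfy `Inv`.
-/

set_option autoImplicit false

namespace CfsgLib.ZJFusion

open Cfsg Cfsg.FusionSystem CfsgLib.Fusion CfsgLib.FusionControl

universe u
variable {Ω : Type u} [Group Ω] {S T : Subgroup Ω} {F G : Cfsg.FusionSystem S}
variable {E : Cfsg.FusionSystem T} {p : ℕ}
variable {Ch : Subgroup Ω → Subgroup Ω → Set (Subgroup Ω)} {Inv : Subgroup Ω → Subgroup Ω → Prop}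

/-- The chosen subgroups for `Z < R` lie properly above `Z` and are invariant under the elements of
`S` normalizing both `R` and `Z`. -/
def IsSChoice (S : Subgroup Ω) (Ch : Subgroup Ω → Subgroup Ω → Set (Subgroup Ω)) : Prop :=
  ∀ Z R U : Subgroup Ω, Z < R → R ≤ S → U ∈ Ch Z R →
    Z < U ∧ U ≤ R ∧ ∀ g ∈ S, g ∈ Subgroup.normalizer (R : Set Ω) →
      g ∈ Subgroup.normalizer (Z : Set Ω) → g ∈ Subgroup.normalizer (U : Set Ω)

/-- The invariant passes to the normalizers of subgroups above `Z`. -/
def IsHereditary (S : Subgroup Ω) (Inv : Subgroup Ω → Subgroup Ω → Prop) : Prop :=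
  ∀ T Z X : Subgroup Ω, T ≤ S → Z ≤ X → X ≤ T → Inv T Z → Inv (normalizerIn T X) Z

/-- The climb: normalizers of subgroups above the core are covered. -/
theorem climb [Finite S] [Fact p.Prime] (hS : IsPGroup p S) (hCh : IsSChoice S Ch) (hI : IsHereditary S Inv)
    {Z : Subgroup Ω} (hE : IsLocal F p E) (hZ : E.IsNormal Z) (hp : IsPGroup p (E.autGroup Z))
    (hcore : E.core = Z) (hInv : Inv T Z) (hcov : Covered G Ch E Z) {n : ℕ}
    (hbig : ∀ R : Subgroup Ω, n < Nat.card R → E.Hom R ⊆ G.Hom R)
    (hrec : ∀ {T' : Subgroup Ω} (E' : Cfsg.FusionSystem T'), IsLocal F p E' → E'.IsNormal Z →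
      IsPGroup p (E'.autGroup Z) → Inv T' Z → Covered G Ch E' Z → size E' < size E → E'.IsSubsystemOf G) :
    ∀ X, E.IsFullyNormalized X → Z < X → n ≤ Nat.card (normalizerIn T X) →
      ∀ P, E.normalizerHom X P ⊆ G.Hom P := by
  have := hE.finite
  have hT := hE.isPGroup hS
  suffices hk : ∀ (k : ℕ) X, Nat.card T ≤ Nat.card (normalizerIn T X) + k →
      E.IsFullyNormalized X → Z < X → n ≤ Nat.card (normalizerIn T X) →
      ∀ P, E.normalizerHom X P ⊆ G.Hom P from fun X => hk (Nat.card T) X (Nat.le_add_left _ _)
  intro k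
  induction k using Nat.strong_induction_on with
  | _ k ih =>
    intro X hk hX hZX hn
    have hXT : X ≤ T := hX.1
    have hZN : Z ≤ normalizerIn T X := hZX.le.trans (le_normalizerIn hXT)
    have hnot : ¬ E.IsNormal X := fun h => absurd (CfsgLib.FusionQuot.le_core _ h)
      (fun hle => hZX.not_ge (hle.trans_eq hcore))
    refine hrec (normalizerSystem E X hX.1) (isLocal_normalizerSystem hS hE hX (hcore ▸ hZN))
      (isNormal_normalizerSystem hX.1 hZ hZN) (isPGroup_autGroup_mono (normalizerSystem_le _) hZN hZ.1 hp)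
      (hI T Z X hE.le_S hZX.le hXT hInv) ?_ (size_normalizerSystem_lt _ hnot)
    rcases eq_or_lt_of_le (normalizerIn_le T X) with heq | hlt
    · exact hcov.mono heq (normalizerSystem_le _)
    intro hZT'' V hV P φ hφ
    obtain ⟨hZV, hVN, hVinv⟩ := hCh Z _ V hZT'' ((normalizerIn_le T X).trans hE.le_S) hV
    have hVT : V ≤ T := hVN.trans (normalizerIn_le T X)
    have hNN : normalizerIn T (normalizerIn T X) ≤ normalizerIn T V := fun g hg =>
      ⟨hg.1, hVinv g (hE.le_S hg.1) hg.2 (stronglyClosed_le_normalizer (isNormal_stronglyClosed hZ) hg.1)⟩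
    have hcard : Nat.card (normalizerIn T X) < Nat.card (normalizerIn T V) :=
      Descent.card_lt_card_of_lt (normalizerIn_le T V) ((lt_normalizerIn hT hlt).trans_le hNN)
    obtain ⟨V', hVV', hV'⟩ := exists_isFullyNormalized E hVT
    obtain ⟨e, he, δ, hδ, hδv, hag⟩ := exists_normalizer_map hT hE.2.1 hV' hVV'
    have hδG : δ ∈ G.Hom _ := hbig _ (hn.trans_lt hcard) hδ
    have hle : Nat.card (normalizerIn T V) ≤ Nat.card (normalizerIn T V') := by
      have : Finite (normalizerIn T V') := finite_of_le (normalizerIn_le T V')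
      exact Nat.card_le_card_of_injective (fun x => (⟨δ x, hδv x⟩ : normalizerIn T V'))
        fun a b h => hom_inj hδ (congrArg Subtype.val h)
    have hZV' : Z < V' := by
      have hfinV : Finite V := finite_of_le hVT
      have hfinZ : Finite Z := finite_of_le hZ.1
      have hzero := range_eq_of_le (φ := (V'.subtype.comp e.toMonoidHom).comp (Subgroup.inclusion hZV.le))
        ((Subgroup.subtype_injective _).comp (e.injective.comp (Subgroup.inclusion_injective _)))
        fun z => by
          show ((e (Subgroup.inclusion hZV.le z) : V') : Ω) ∈ Z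
          rw [← hag]
          exact (isNormal_stronglyClosed hZ).2 _ le_rfl _
            (restrict_mem hδ ((hZV.le.trans (le_normalizerIn hVT)))) z
      refine lt_of_le_of_ne ?_ fun h => ?_
      · rw [← hzero]
        rintro _ ⟨z, rfl⟩
        exact (e _).2
      · exact (Descent.card_lt_card_of_lt hVT hZV).ne
          ((congrArg (fun H : Subgroup Ω => Nat.card H) h).trans (isConj_card_eq hVV').symm)
    have hV'G := ih (Nat.card T - Nat.card (normalizerIn T V'))
      (by have := Descent.card_le_of_le (S := T) (normalizerIn_le T V'); omega) V' (by omega) hV' hZV'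
      (by omega)
    obtain ⟨hφE, hP, hv, ψ, hψ, hψag, hVψ⟩ := hφ
    have hN2 : normalizerIn (normalizerIn T X) V ≤ normalizerIn T V :=
      inf_le_inf_right _ (normalizerIn_le T X)
    exact normalizerHom_subset_of_conj hVT hV'.1 hδ hδG hδv hag hV'G P
      ⟨hφE.1, hP.trans hN2, fun x => hN2 (hv x), ψ, hψ.1, hψag, hVψ⟩

/-- **Control theorem.**  A local system lies in `G` if the maps normalizing the chosen subgroups
do, provided this holds for the constrained local systems. -/
theorem control [Finite S] [Fact p.Prime] (hS : IsPGroup p S) (hCh : IsSChoice S Ch) (hI : IsHereditary S Inv)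
    (hup : ∀ {T : Subgroup Ω} (E : Cfsg.FusionSystem T) (Z : Subgroup Ω), IsLocal F p E →
      E.IsNormal Z → (∀ (hY : E.IsNormal E.core) P, E.Hom P ⊆ (tcSystem E E.core hY).Hom P) →
      Inv T Z → Covered G Ch E Z → Inv T E.core ∨ E.IsSubsystemOf G)
    (hcons : ∀ {T : Subgroup Ω} (E : Cfsg.FusionSystem T) (Z : Subgroup Ω), IsLocal F p E →
      E.IsNormal Z → IsPGroup p (E.autGroup Z) → Inv T Z → Z < E.core →
      centralizerIn T E.core ≤ E.core → Covered G Ch E Z → E.IsSubsystemOf G)
    (hE : IsLocal F p E) {Z : Subgroup Ω} (hZ : E.IsNormal Z) (hp : IsPGroup p (E.autGroup Z))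
    (hInv : Inv T Z) (hcov : Covered G Ch E Z) : E.IsSubsystemOf G := by
  suffices main : ∀ (s d : ℕ) {T : Subgroup Ω} (E : Cfsg.FusionSystem T) (Z : Subgroup Ω),
      size E = s → Nat.card T ≤ Nat.card Z + d → IsLocal F p E → E.IsNormal Z →
      IsPGroup p (E.autGroup Z) → Inv T Z → Covered G Ch E Z → E.IsSubsystemOf G from
    main _ (Nat.card T) E Z rfl (Nat.le_add_left _ _) hE hZ hp hInv hcov
  intro s
  induction s using Nat.strong_induction_on with
  | _ s ihs =>
  intro d
  induction d using Nat.strong_induction_on with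
  | _ d ihd =>
    intro T E Z hs hd hE hZ hp hInv hcov
    have := hE.finite
    have hT := hE.isPGroup hS
    have hrec : ∀ {T' : Subgroup Ω} (E' : Cfsg.FusionSystem T') (Z' : Subgroup Ω), IsLocal F p E' →
        E'.IsNormal Z' → IsPGroup p (E'.autGroup Z') → Inv T' Z' → Covered G Ch E' Z' →
        size E' < size E → E'.IsSubsystemOf G := fun {T'} E' Z' h₁ h₂ h₃ h₃' h₄ h₅ =>
      ihs (size E') (hs ▸ h₅) (Nat.card T') E' Z' rfl (Nat.le_add_left _ _) h₁ h₂ h₃ h₃' h₄
    have hY : E.IsNormal E.core := CfsgLib.FusionQuot.isNormal_core E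
    have hTY : T ≤ Subgroup.normalizer (E.core : Set Ω) :=
      stronglyClosed_le_normalizer (isNormal_stronglyClosed hY)
    rcases eq_or_lt_of_le (CfsgLib.FusionQuot.le_core _ hZ) with heq | hlt
    · -- `Z` is the largest normal subgroup
      intro P φ hφ
      refine (Descent.hom_le_of_aut_centric (E := restrictSystem G hE.le_S) hT hE.2.1
        (fun Q hQn hQc hbig => ?_) P hφ).1
      clear hφ φ P
      intro α hα
      have hα' : IsFIso E (α : Q ≃* Q) := (mem_autGroup_iff hQn.1).1 hα
      have hbigG : ∀ R : Subgroup Ω, Nat.card Q < Nat.card R → E.Hom R ⊆ G.Hom R :=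
        fun R hR φ hφ => (hbig R hR hφ).1
      refine (mem_autGroup_iff hQn.1).2 ⟨?_, hQn.1, fun x => map_mem hα' x⟩
      by_cases hZQ : Z ≤ Q
      · rcases eq_or_lt_of_le hZQ with rfl | hZQ'
        · -- automorphisms of `Z` come from `T`
          obtain ⟨-, P₀, hP₀⟩ := isFullyAutomized_of_isFullyNormalized hT hE.2.1 hQn
          have htop := P₀.3 (hp.of_equiv Subgroup.topEquiv.symm) le_top
          have hmem : (⟨α, hα⟩ : E.autGroup Z) ∈ (P₀ : Subgroup (E.autGroup Z)) := htop ▸ trivial
          rw [hP₀, Subgroup.mem_subgroupOf] at hmem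
          obtain ⟨t, ht, ht'⟩ := mem_autInducedBy_iff.1 hmem
          refine mem_of_restrict (G.conj_mem (hZ.1.trans hE.le_S) (hE.le_S ht)) le_rfl _ fun x => ?_
          exact ht' x
        · have hfinN : Finite (normalizerIn T Q) := finite_of_le (normalizerIn_le T Q)
          exact climb hS hCh hI hE hZ hp heq.symm hInv hcov hbigG (fun E' => hrec E' Z) Q hQn hZQ'
            (Nat.card_le_card_of_injective _
              (Subgroup.inclusion_injective (le_normalizerIn hQn.1)))
            Q ⟨hα', le_normalizerIn hQn.1, fun x => le_normalizerIn hQn.1 ((α : Q ≃* Q) x).2,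
              (Q.subtype.comp (α : Q ≃* Q).toMonoidHom).comp (Subgroup.inclusion (sup_le le_rfl le_rfl)),
              restrict_mem hα' _, fun x => rfl, by
                ext y
                rw [mem_map_subgroupOf]
                constructor
                · rintro ⟨x, hx, hxQ, rfl⟩
                  exact ((α : Q ≃* Q) _).2
                · intro hy
                  refine ⟨(α : Q ≃* Q).symm ⟨y, hy⟩, le_sup_left (b := Q) (SetLike.coe_mem _),
                    SetLike.coe_mem _, ?_⟩
                  show ((α : Q ≃* Q) ((α : Q ≃* Q).symm ⟨y, hy⟩) : Ω) = y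
                  rw [MulEquiv.apply_symm_apply]⟩
      · obtain ⟨ψ, hψ, hag, -⟩ := hZ.2 _ _ hα'
        exact mem_of_restrict (hbigG _ (Descent.card_lt_card_of_lt (sup_le hQn.1 hZ.1)
          (lt_of_le_of_ne le_sup_left fun h => hZQ (le_sup_right.trans_eq h.symm))) hψ) le_sup_left _
          fun x => (hag x).symm
    · by_cases htc : ∀ P, E.Hom P ⊆ (tcSystem E E.core hY).Hom P
      · -- move up to the core
        rcases hup E Z hE hZ (fun _ => htc) hInv hcov with hInv' | hdone
        swap; · exact hdone
        refine ihd (Nat.card T - Nat.card E.core)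
          (by
            have := Descent.card_lt_card_of_lt hY.1 hlt
            have := Descent.card_le_of_le (S := T) hY.1
            omega)
          E E.core hs (by omega) hE hY (isPGroup_autGroup_of_tc hT hY htc) hInv' ?_
        intro hYT V hV P
        obtain ⟨hYV, hVT, hVinv⟩ := hCh _ _ V hYT hE.le_S hV
        have hTV : T ≤ Subgroup.normalizer (V : Set Ω) := fun g hg =>
          hVinv g (hE.le_S hg) (Subgroup.le_normalizer hg) (hTY hg)
        have hfn := isFullyNormalized_of_le_normalizer (E := E) hVT hTV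
        have hN : ∀ Y' : Subgroup Ω, Y' ≤ T → Y' ≤ normalizerIn T V := fun Y' h => by
          rwa [normalizerIn_eq_of_le hTV]
        refine hrec (normalizerSystem E V hVT) Z (isLocal_normalizerSystem hS hE hfn (hN _ hY.1))
          (isNormal_normalizerSystem hVT hZ (hN _ hZ.1))
          (isPGroup_autGroup_mono (normalizerSystem_le _) (hN _ hZ.1) hZ.1 hp)
          ((normalizerIn_eq_of_le hTV).symm ▸ hInv)
          (hcov.mono (normalizerIn_eq_of_le hTV) (normalizerSystem_le _))
          (size_normalizerSystem_lt _ fun h => hYV.not_ge (CfsgLib.FusionQuot.le_core _ h)) P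
      · by_cases hC : centralizerIn T E.core ≤ E.core
        · exact hcons E Z hE hZ hp hInv hlt hC hcov
        have hU : E.core ⊔ centralizerIn T E.core ≤ T := sup_le hY.1 (centralizerIn_le T _)
        have hTU : T ≤ Subgroup.normalizer ((E.core ⊔ centralizerIn T E.core : Subgroup Ω) : Set Ω) :=
          fun g hg => mem_normalizer_sup (hTY hg)
            (mem_normalizer_inf (Subgroup.le_normalizer hg) (mem_normalizer_centralizer (hTY hg)))
        have hfn := isFullyNormalized_of_le_normalizer (E := E) hU hTU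
        have hN : ∀ Y' : Subgroup Ω, Y' ≤ T → Y' ≤ normalizerIn T (E.core ⊔ centralizerIn T E.core) :=
          fun Y' h => by rwa [normalizerIn_eq_of_le hTU]
        refine le_of_tc_of_normalizer hT hE.2.1 hY hU ?_ ?_
        · push Not at htc
          obtain ⟨P, hP⟩ := htc
          obtain ⟨φ, hφ, hn⟩ := Set.not_subset.1 hP
          exact hrec (tcSystem E E.core hY) Z (isLocal_tcSystem hS hE hY) (isNormal_tcSystem hY hZ)
            (isPGroup_autGroup_mono (tcSystem_le _ hY) hZ.1 hZ.1 hp) hInv
            (hcov.mono rfl (tcSystem_le _ hY)) (size_lt (tcSystem_le _ hY) hφ hn)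
        · exact hrec _ Z (isLocal_normalizerSystem hS hE hfn (hN _ hY.1))
            (isNormal_normalizerSystem hU hZ (hN _ hZ.1))
            (isPGroup_autGroup_mono (normalizerSystem_le _) (hN _ hZ.1) hZ.1 hp)
            ((normalizerIn_eq_of_le hTU).symm ▸ hInv)
            (hcov.mono (normalizerIn_eq_of_le hTU) (normalizerSystem_le _))
            (size_normalizerSystem_lt _ fun h =>
              hC (le_sup_right.trans (CfsgLib.FusionQuot.le_core _ h)))

end CfsgLib.ZJFusion
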