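import Cfsg.Agent.Lib.LocEven.Replacement
import Cfsg.Agent.Lib.PLocal.Families
import Cfsg.Agent.Lib.Fusion.ModelNormal.Subgroup

/-!
# Layers of a normal abelian subgroup of a Sylow subgroup; families of abelian subgroups

`lay P Yb k = Yb ∩ Z_k(P)`; `IsMaxAbMod Yk D A`: `A` is abelian modulo `Yk` of largest order;
`replace_mod` and `replace_ab`: replacement inside a normalizer; `exists_quad_of_family`: a member
outside `Q` normalized by `V` gives a quadratic element.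
-/

set_option autoImplicit false

namespace CfsgLib.ZJFusion

open Cfsg
open scoped commutatorElement

variable {X : Type*} [Group X]

/-- Being kept by every automorphism of `P` preserving `Yb`. -/
def Canonical (P Yb U : Subgroup X) : Prop :=
  ∀ e : P ≃* P, (∀ y : P, (y : X) ∈ Yb ↔ (e y : X) ∈ Yb) → ∀ u : P, (u : X) ∈ U → (e u : X) ∈ U

/-- The conjugates of `Yb` inside `P` by elements normalizing `U` lie in `Yb`. -/
def KeepsY (P Yb U : Subgroup X) : Prop :=
  ∀ x ∈ Subgroup.normalizer (U : Set X), ∀ y ∈ Yb, x * y * x⁻¹ ∈ P → x * y * x⁻¹ ∈ Yb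

/-! ### Layers -/

/-- `Yb ∩ Z_k(P)`. -/
def lay (P Yb : Subgroup X) (k : ℕ) : Subgroup X :=
  Yb ⊓ (Subgroup.upperCentralSeries ↥P k).map P.subtype

theorem lay_le (P Yb : Subgroup X) (k : ℕ) : lay P Yb k ≤ Yb := inf_le_left

theorem lay_zero (P Yb : Subgroup X) : lay P Yb 0 = ⊥ := by
  rw [lay, Subgroup.upperCentralSeries_zero, Subgroup.map_bot, inf_bot_eq]

theorem lay_succ_commutator {P Yb : Subgroup X} (hPY : P ≤ Subgroup.normalizer (Yb : Set X)) {k : ℕ}
    {y r : X} (hy : y ∈ lay P Yb (k + 1)) (hr : r ∈ P) : ⁅y, r⁆ ∈ lay P Yb k := by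
  obtain ⟨hyY, z, hz, rfl⟩ := hy
  refine ⟨?_, ⁅z, (⟨r, hr⟩ : P)⁆, Subgroup.mem_upperCentralSeries_succ_iff.1 hz _, rfl⟩
  show ((z : P) : X) * r * ((z : P) : X)⁻¹ * r⁻¹ ∈ Yb
  rw [show ((z : P) : X) * r * ((z : P) : X)⁻¹ * r⁻¹ =
    ((z : P) : X) * (r * ((z : P) : X)⁻¹ * r⁻¹) by simp [mul_assoc]]
  exact mul_mem hyY ((Subgroup.mem_normalizer_iff.1 (hPY hr) _).1 (inv_mem hyY))

theorem le_normalizer_lay {P Yb : Subgroup X} (hPY : P ≤ Subgroup.normalizer (Yb : Set X)) (k : ℕ) :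
    P ≤ Subgroup.normalizer (lay P Yb k : Set X) :=
  (le_inf hPY ((Subgroup.le_normalizer_map P.subtype).trans' (by
    rw [Subgroup.normalizer_eq_top, ← MonoidHom.range_eq_map, Subgroup.range_subtype]))).trans
    Subgroup.inf_normalizer_le_normalizer_inf

theorem lay_le_succ (P Yb : Subgroup X) (k : ℕ) : lay P Yb k ≤ lay P Yb (k + 1) :=
  inf_le_inf_left _ (Subgroup.map_mono (Subgroup.upperCentralSeries_mono _ (Nat.le_succ k)))

theorem exists_lay_eq [Finite X] {p : ℕ} [Fact p.Prime] {P Yb : Subgroup X} (hP : IsPGroup p P)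
    (hYP : Yb ≤ P) : ∃ n, lay P Yb n = Yb := by
  have : Group.IsNilpotent P := hP.isNilpotent
  refine ⟨Group.nilpotencyClass P, ?_⟩
  rw [lay, Subgroup.upperCentralSeries_nilpotencyClass, ← MonoidHom.range_eq_map,
    Subgroup.range_subtype, inf_of_le_left hYP]

theorem canonical_lay (P Yb : Subgroup X) (k : ℕ) : Canonical P Yb (lay P Yb k) := by
  rintro e he u ⟨hu, z, hz, hzu⟩
  refine ⟨(he u).1 hu, e u, ?_, rfl⟩
  rw [← Subtype.ext hzu]
  exact (Subgroup.comap_upperCentralSeries e k).ge hz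

/-! ### Commutators modulo a normal subgroup -/

theorem commutator_sup_le {N A B C : Subgroup X} [N.Normal] (hA : ⁅A, C⁆ ≤ N) (hB : ⁅B, C⁆ ≤ N) :
    ⁅A ⊔ B, C⁆ ≤ N := by
  have key : ∀ H : Subgroup X, ⁅H, C⁆ ≤ N ↔
      H ≤ (Subgroup.centralizer ((C.map (QuotientGroup.mk' N) : Subgroup _) : Set _)).comap
        (QuotientGroup.mk' N) := by
    intro H
    rw [← Subgroup.map_le_iff_le_comap, ← Subgroup.commutator_eq_bot_iff_le_centralizer,
      ← Subgroup.map_commutator, Subgroup.map_eq_bot_iff, QuotientGroup.ker_mk']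
  exact (key _).2 (sup_le ((key A).1 hA) ((key B).1 hB))

theorem commutator_sup_self_le {N A B : Subgroup X} [N.Normal] (hA : ⁅A, A⁆ ≤ N) (hB : ⁅B, B⁆ ≤ N)
    (hAB : ⁅A, B⁆ ≤ N) : ⁅A ⊔ B, A ⊔ B⁆ ≤ N := by
  refine commutator_sup_le ?_ ?_ <;> rw [Subgroup.commutator_comm] <;> refine commutator_sup_le ?_ ?_
  · exact hA
  · rwa [Subgroup.commutator_comm]
  · exact hAB
  · exact hB

/-! ### Families -/

/-- `A` is abelian modulo `N`, of largest order among such subgroups of `D`. -/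
structure IsMaxAbMod (N D A : Subgroup X) : Prop where
  le : A ≤ D
  ge : N ≤ A
  comm : ⁅A, A⁆ ≤ N
  max : ∀ B : Subgroup X, B ≤ D → N ≤ B → ⁅B, B⁆ ≤ N → Nat.card B ≤ Nat.card A

theorem exists_isMaxAbMod [Finite X] {N D : Subgroup X} (hND : N ≤ D) (hN : ⁅N, N⁆ ≤ N) :
    ∃ A, IsMaxAbMod N D A := by
  obtain ⟨A, ⟨h1, h2, h3⟩, hmax⟩ := Set.exists_max_image
    {A : Subgroup X | A ≤ D ∧ N ≤ A ∧ ⁅A, A⁆ ≤ N} (fun A => Nat.card A) (Set.toFinite _)
    ⟨N, hND, le_rfl, hN⟩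
  exact ⟨A, h1, h2, h3, fun B a b c => hmax B ⟨a, b, c⟩⟩

theorem replace_mod [Finite X] {p : ℕ} [Fact p.Prime] {P : Subgroup X} (hP : IsPGroup p P)
    {N A V : Subgroup X} [N.Normal] (hA : IsMaxAbMod N P A) (hVP : V ≤ P)
    (hPV : P ≤ Subgroup.normalizer (V : Set X)) (hNV : N ≤ V) (hV : ⁅V, V⁆ ≤ N)
    (hnot : ¬ V ≤ Subgroup.normalizer (A : Set X)) :
    ∃ B, IsMaxAbMod N P B ∧ B ≤ Subgroup.normalizer (A : Set X) ∧
      Nat.card ↥(A ⊓ V) < Nat.card ↥(B ⊓ V) := by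
  classical
  let f : P →* X ⧸ N := (QuotientGroup.mk' N).comp P.subtype
  let g : P →* f.range := f.rangeRestrict
  have hg : Function.Surjective g := f.rangeRestrict_surjective
  have hker : ∀ x : P, g x = 1 ↔ (x : X) ∈ N := fun x => by
    rw [← QuotientGroup.eq_one_iff (N := N) (x : X), Subtype.ext_iff]; rfl
  let img (H : Subgroup X) : Subgroup f.range := (H.subgroupOf P).map g
  have hcomap : ∀ H : Subgroup X, N ≤ H → (img H).comap g = H.subgroupOf P := fun H hH =>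
    Subgroup.comap_map_eq_self fun x hx => hH ((hker x).1 hx)
  let pre (C : Subgroup f.range) : Subgroup X := (C.comap g).map P.subtype
  have hpre : ∀ C, N ⊓ P ≤ pre C := fun C x hx =>
    ⟨⟨x, hx.2⟩, by rw [SetLike.mem_coe, Subgroup.mem_comap, (hker _).2 hx.1]; exact one_mem _, rfl⟩
  have hcomm : ∀ H : Subgroup X, H ≤ P → (⁅H, H⁆ ≤ N ↔ IsMulCommutative ↥(img H)) := by
    intro H hH
    rw [← Subgroup.commutator_self_eq_bot_iff, ← Subgroup.map_commutator, Subgroup.map_eq_bot_iff]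
    constructor
    · intro h x hx
      refine (hker x).2 (h ?_)
      have := Subgroup.mem_map_of_mem P.subtype hx
      rw [Subgroup.map_commutator, Subgroup.subgroupOf_map_subtype, inf_of_le_left hH] at this
      exact this
    · intro h
      have := Subgroup.map_mono (f := P.subtype) h
      rw [Subgroup.map_commutator, Subgroup.subgroupOf_map_subtype, inf_of_le_left hH] at this
      refine this.trans ?_
      rintro _ ⟨x, hx, rfl⟩
      exact (hker x).1 hx
  have hcardImg : ∀ H : Subgroup X, N ≤ H → H ≤ P → Nat.card H = Nat.card (img H) * Nat.card g.ker := by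
    intro H hN hH
    rw [← Nat.card_congr (Subgroup.subgroupOfEquivOfLe hH).toEquiv]
    set H' := H.subgroupOf P
    have hk : g.ker ≤ H' := fun x hx => hN ((hker x).1 hx)
    have e1 : Nat.card (g.comp H'.subtype).range = Nat.card (img H) :=
      congrArg (fun K : Subgroup f.range => Nat.card K)
        ((MonoidHom.range_comp _ _).trans (congrArg (Subgroup.map g) H'.range_subtype))
    have e2 : Nat.card (g.comp H'.subtype).ker = Nat.card g.ker :=
      Nat.card_congr (Subgroup.subgroupOfEquivOfLe hk).toEquiv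
    rw [← e1, ← e2, ← (g.comp H'.subtype).ker.index_mul_card, Subgroup.index_ker]
  have hNP : N ≤ P := hA.ge.trans hA.le
  have hpre' : ∀ C, N ≤ pre C ∧ pre C ≤ P ∧ img (pre C) = C := fun C =>
    ⟨fun x hx => hpre C ⟨hx, hNP hx⟩, Subgroup.map_subtype_le _, by
      show ((pre C).subgroupOf P).map g = C
      rw [show (pre C).subgroupOf P = C.comap g from
        Subgroup.comap_map_eq_self_of_injective P.subtype_injective _,
        Subgroup.map_comap_eq_self_of_surjective hg]⟩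
  have hmaxA : img A ∈ maxAbelianSubgroups f.range := by
    refine ⟨(hcomm A hA.le).1 hA.comm, fun C hC => ?_⟩
    obtain ⟨h1, h2, h3⟩ := hpre' C
    have h := hA.max (pre C) h2 h1 ((hcomm _ h2).2 (h3.symm ▸ hC))
    rw [hcardImg _ h1 h2, hcardImg _ hA.ge hA.le, h3] at h
    exact Nat.le_of_mul_le_mul_right h Nat.card_pos
  have : Group.IsNilpotent f.range := (hP.of_surjective g hg).isNilpotent
  have hVn : (img V).Normal :=
    Subgroup.Normal.map ((Subgroup.normal_subgroupOf_iff_le_normalizer hVP).2 hPV) g hg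
  have hnotI : ¬ img V ≤ Subgroup.normalizer (img A : Set f.range) := by
    intro h
    refine hnot fun v hv => ?_
    have h1 : (⟨v, hVP hv⟩ : P) ∈ Subgroup.normalizer ((A.subgroupOf P : Subgroup P) : Set P) := by
      rw [← hcomap A hA.ge, ← Subgroup.comap_normalizer_eq_of_surjective _ hg]
      exact h ⟨_, hv, rfl⟩
    rw [Subgroup.mem_normalizer_iff] at h1 ⊢
    intro a
    refine ⟨fun ha => (h1 ⟨a, hA.le ha⟩).1 ha, fun ha => ?_⟩
    have haP : a ∈ P := by
      simpa [mul_assoc] using mul_mem (mul_mem (inv_mem (hVP hv)) (hA.le ha)) (hVP hv)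
    exact (h1 ⟨a, haP⟩).2 ha
  obtain ⟨C, hC, hlt, hCN, -, -⟩ :=
    CfsgLib.LocEven.thompson_replacement_abelian hmaxA ((hcomm V hVP).1 hV) hnotI
  obtain ⟨h1, h2, h3⟩ := hpre' C
  refine ⟨pre C, ⟨h2, h1, (hcomm _ h2).2 (h3.symm ▸ hC.1), fun B hB hBN hBc => ?_⟩, ?_, ?_⟩
  · have h := hC.2 _ ((hcomm B hB).1 hBc)
    rw [hcardImg B hBN hB, hcardImg _ h1 h2, h3]
    exact Nat.mul_le_mul_right _ h
  · rintro _ ⟨x, hx, rfl⟩
    have h4 : x ∈ Subgroup.normalizer ((A.subgroupOf P : Subgroup P) : Set P) := by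
      rw [← hcomap A hA.ge, ← Subgroup.comap_normalizer_eq_of_surjective _ hg]
      exact hCN hx
    rw [Subgroup.mem_normalizer_iff] at h4 ⊢
    intro a
    refine ⟨fun ha => (h4 ⟨a, hA.le ha⟩).1 ha, fun ha => ?_⟩
    have haP : a ∈ P := by
      have := hA.le ha
      simpa [mul_assoc] using mul_mem (mul_mem (inv_mem x.2) this) x.2
    exact (h4 ⟨a, haP⟩).2 ha
  · have hinf : ∀ H : Subgroup X, N ≤ H → H ≤ P → (img H ⊓ img V).comap g = (H ⊓ V).subgroupOf P :=
      fun H hN hH => by rw [Subgroup.comap_inf, hcomap H hN, hcomap V hNV]; rfl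
    have e : ∀ H : Subgroup X, N ≤ H → H ≤ P →
        Nat.card ↥(H ⊓ V) = Nat.card ↥((img H ⊓ img V).comap g) := fun H hN hH => by
      rw [hinf H hN hH]
      exact (Nat.card_congr (Subgroup.subgroupOfEquivOfLe (inf_le_left.trans hH)).toEquiv).symm
    rw [e A hA.ge hA.le, e _ h1 h2, h3]
    refine lt_of_le_of_ne (Subgroup.card_le_of_le (Subgroup.comap_mono hlt.le)) fun he => hlt.ne ?_
    have := Subgroup.eq_of_le_of_card_ge (Subgroup.comap_mono (f := g) hlt.le) he.ge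
    simpa [Subgroup.map_comap_eq_self_of_surjective hg] using congrArg (Subgroup.map g) this

theorem replace_ab [Finite X] {p : ℕ} [Fact p.Prime] (hp : p ≠ 2) {P : Subgroup X} (hP : IsPGroup p P)
    {A V : Subgroup X} (hA : CfsgLib.PLoc.IsMaxAb 0 P A) (hVP : V ≤ P)
    (hPV : P ≤ Subgroup.normalizer (V : Set X)) (hV : ⁅V, V⁆ ≤ A)
    (hnot : ¬ V ≤ Subgroup.normalizer (A : Set X)) :
    ∃ B, CfsgLib.PLoc.IsMaxAb 0 P B ∧ B ≤ Subgroup.normalizer (A : Set X) ∧
      Nat.card ↥(A ⊓ V) < Nat.card ↥(B ⊓ V) := by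
  classical
  set A' := A.subgroupOf P
  set V' := V.subgroupOf P
  have : V'.Normal := (Subgroup.normal_subgroupOf_iff_le_normalizer hVP).2 hPV
  have hcA : IsMulCommutative A' := by
    haveI := hA.comm
    infer_instance
  have hV' : ⁅V', V'⁆ ≤ A' := Subgroup.map_le_iff_le_comap.1 (by
    rw [Subgroup.map_commutator, Subgroup.subgroupOf_map_subtype, inf_of_le_left hVP]
    exact hV)
  have hback : ∀ x : P, x ∈ Subgroup.normalizer (A' : Set P) → (x : X) ∈ Subgroup.normalizer (A : Set X) := by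
    intro x h4
    rw [Subgroup.mem_normalizer_iff] at h4 ⊢
    intro a
    refine ⟨fun ha => (h4 ⟨a, hA.le ha⟩).1 ha, fun ha => ?_⟩
    have haP : a ∈ P := by
      have := hA.le ha
      simpa [mul_assoc] using mul_mem (mul_mem (inv_mem x.2) this) x.2
    exact (h4 ⟨a, haP⟩).2 ha
  have hnot' : ¬ V' ≤ Subgroup.normalizer (A' : Set P) := fun h =>
    hnot fun v hv => hback ⟨v, hVP hv⟩ (h hv)
  obtain ⟨b, hb, hbN, hbA⟩ := CfsgLib.PLoc.exists_mem_normalizer_normalizer hP hnot'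
  obtain ⟨h1, h2, -, h4, -, -, h7, -, -, -⟩ :=
    CfsgLib.PLoc.replacement hP (fun h => absurd h hp) hcA hV' hb hbN hbA
  refine ⟨(CfsgLib.PLoc.starSub A' b).map P.subtype, ⟨Subgroup.map_subtype_le _, ?_,
    fun a _ => pow_zero a, fun C hC hc hce => ?_⟩, ?_, ?_⟩
  · haveI := h2
    infer_instance
  · rw [Subgroup.card_map_of_injective P.subtype_injective, h1,
      Nat.card_congr (Subgroup.subgroupOfEquivOfLe hA.le).toEquiv]
    exact hA.max C hC hc hce
  · rintro _ ⟨x, hx, rfl⟩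
    exact hback x (h7 hx)
  · rw [← Nat.card_congr (Subgroup.subgroupOfEquivOfLe
      (inf_le_left.trans hA.le : A ⊓ V ≤ P)).toEquiv,
      show (CfsgLib.PLoc.starSub A' b).map P.subtype ⊓ V =
        ((CfsgLib.PLoc.starSub A' b) ⊓ V').map P.subtype by
        rw [Subgroup.map_inf _ _ _ P.subtype_injective, Subgroup.subgroupOf_map_subtype,
          inf_of_le_left hVP],
      Subgroup.card_map_of_injective P.subtype_injective]
    exact lt_of_le_of_ne (Subgroup.card_le_of_le h4.le) fun he =>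
      h4.ne (Subgroup.eq_of_le_of_card_ge h4.le he.ge)

/-- A member outside `Q` normalized by `V` gives a quadratic element. -/
theorem exists_quad_of_family [Finite X] {P Q N T V : Subgroup X} [N.Normal] (Fam : Subgroup X → Prop)
    (hle : ∀ A, Fam A → A ≤ P) (hcomm : ∀ A, Fam A → ⁅A, A⁆ ≤ N)
    (hconj : ∀ A, Fam A → A ≤ Q → ∀ x : X, Fam (A.map (MulAut.conj x).toMonoidHom) ∧
      A.map (MulAut.conj x).toMonoidHom ≤ Q)
    (hT : ∀ A, Fam A → A ≤ Q → T ≤ A)
    (hV : V = Subgroup.closure {v | ∃ x : X, ∃ t ∈ T, v = x * t * x⁻¹})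
    (hrepl : ∀ A, Fam A → ¬ V ≤ Subgroup.normalizer (A : Set X) →
      ∃ B, Fam B ∧ B ≤ Subgroup.normalizer (A : Set X) ∧ Nat.card ↥(A ⊓ V) < Nat.card ↥(B ⊓ V))
    (hex : ∃ A, Fam A ∧ ¬ A ≤ Q) :
    ∃ a ∈ P, a ∉ Q ∧ ∀ v ∈ V, ⁅a, ⁅a, v⁆⁆ ∈ N := by
  obtain ⟨A, ⟨hA, hAQ⟩, hmax⟩ := Set.exists_max_image {A : Subgroup X | Fam A ∧ ¬ A ≤ Q}
    (fun A => Nat.card ↥(A ⊓ V)) (Set.toFinite _) hex
  by_cases hn : V ≤ Subgroup.normalizer (A : Set X)
  · obtain ⟨a, haA, haQ⟩ := SetLike.not_le_iff_exists.1 hAQ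
    refine ⟨a, hle A hA haA, haQ, fun v hv => hcomm A hA (Subgroup.commutator_mem_commutator haA ?_)⟩
    rw [commutatorElement_def, show a * v * a⁻¹ * v⁻¹ = a * (v * a⁻¹ * v⁻¹) by simp [mul_assoc]]
    exact mul_mem haA ((Subgroup.mem_normalizer_iff.1 (hn hv) _).1 (inv_mem haA))
  · obtain ⟨B, hB, hBN, hlt⟩ := hrepl A hA hn
    have hBQ : B ≤ Q := by
      by_contra h
      exact absurd (hmax B ⟨hB, h⟩) (not_le.2 hlt)
    refine absurd ?_ hn
    refine le_trans ?_ hBN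
    rw [hV, Subgroup.closure_le]
    rintro _ ⟨x, t, ht, rfl⟩
    have h1 := hconj B hB hBQ x⁻¹
    obtain ⟨c, hc, hcv⟩ := hT _ h1.1 h1.2 ht
    rw [← show c = x * t * x⁻¹ by
      rw [← hcv]; simp [mul_assoc]]
    exact hc

end CfsgLib.ZJFusion
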