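import Cfsg.Agent.Lib.ZJFusion.Section
import Cfsg.Agent.Lib.ZJFusion.Layers
import Cfsg.Agent.Lib.FusionControl.OffenderPair

/-!
# The group theorem

`exists_datum`: if `Yb` is normal in the Sylow subgroup `P` of the constrained group `X`, the proper
overgroups of `P` normalize `Yb` but `X` does not, and the maps normalizing the characteristic
subgroups keep `Yb`, then elements `a`, `n` normalizing `Yb` act on a two-dimensional section of
`O_p(X)` as a transvection and a torus element.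
-/

set_option autoImplicit false
set_option linter.style.haveILetI false
set_option maxHeartbeats 800000

namespace CfsgLib.ZJFusion

open Cfsg
open scoped commutatorElement

variable {X : Type*} [Group X]

/-- A transvection `a` and a torus element `n` on the section `D / D'`, both normalizing `Yb`, and
an eigenvector `y` in `Yb`. -/
structure IsDatum (p : ℕ) (P Yb Q D D' : Subgroup X) (a n u w y : X) (s t : ℕ) : Prop where
  Q_le : Q ≤ P
  D'_le : D' ≤ D
  D_le : D ≤ Q
  a_Q : a ∈ Subgroup.normalizer (Q : Set X)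
  n_Q : n ∈ Subgroup.normalizer (Q : Set X)
  a_Y : a ∈ Subgroup.normalizer (Yb : Set X)
  n_Y : n ∈ Subgroup.normalizer (Yb : Set X)
  a_D : a ∈ Subgroup.normalizer (D : Set X)
  n_D : n ∈ Subgroup.normalizer (D : Set X)
  a_D' : a ∈ Subgroup.normalizer (D' : Set X)
  n_D' : n ∈ Subgroup.normalizer (D' : Set X)
  comm : ⁅D, D⁆ ≤ D'
  gen : D = D' ⊔ Subgroup.zpowers u ⊔ Subgroup.zpowers w
  s_ord : orderOf (s : ZMod p) = p - 1
  st : (s : ZMod p) * t = 1
  u_not : u ∉ D'
  u_pow : u ^ p ∈ D'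
  w_pow : w ^ p ∈ D'
  a_u : a * u * a⁻¹ * u⁻¹ ∈ D'
  a_w : a * w * a⁻¹ * w⁻¹ * u⁻¹ ∈ D'
  n_u : n * u * n⁻¹ * (u ^ s)⁻¹ ∈ D'
  n_w : n * w * n⁻¹ * (w ^ t)⁻¹ ∈ D'
  y_mem : y ∈ Yb
  y_Q : y ∈ Q
  y_not : y ∉ D'
  n_y : n * y * n⁻¹ * (y ^ s)⁻¹ ∈ D'

/-- A subgroup over a Sylow subgroup of a constrained group is constrained. -/
theorem constrained_subgroup [Finite X] {p : ℕ} [Fact p.Prime] (P : Sylow p X) {K : Subgroup X}
    (hPK : (P : Subgroup X) ≤ K)
    (hC : Subgroup.centralizer (pCore p X : Set X) ≤ pCore p X) :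
    Subgroup.centralizer (pCore p K : Set K) ≤ pCore p K := by
  have hle : (pCore p X).subgroupOf K ≤ pCore p K := by
    refine CfsgLib.Solvable.le_pCore ((CfsgLib.Solvable.pCore_normal p X).subgroupOf K) ?_
    exact (CfsgLib.Solvable.pCore_isPGroup p X).comap_of_injective _ K.subtype_injective
  intro c hc
  refine hle (hC (Subgroup.mem_centralizer_iff.2 fun q hq => ?_))
  exact congrArg Subtype.val (Subgroup.mem_centralizer_iff.1 hc
    ⟨q, hPK (CfsgLib.Solvable.pCore_le_sylow P hq)⟩ (hle hq))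

variable [Finite X] {p : ℕ} [Fact p.Prime]

theorem mem_core_of_stab (hC : Subgroup.centralizer (pCore p X : Set X) ≤ pCore p X)
    {R : Subgroup X} [R.Normal] (hR : R ≤ pCore p X) {y : X}
    (h : ∀ q ∈ pCore p X, ⁅y, q⁆ ∈ R) (hc : y ∈ Subgroup.centralizer (R : Set X)) :
    y ∈ pCore p X := by
  refine CfsgLib.Fusion.ModelNormal.mem_pCore_of_stab hC hR (fun q hq => ?_) hc
  have := inv_mem (h q⁻¹ (inv_mem hq))
  simpa [commutatorElement_def, mul_assoc] using this

theorem mem_normalizer_of_forall {H : Subgroup X} {g : X} (h : ∀ x ∈ H, g * x * g⁻¹ ∈ H) :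
    g ∈ Subgroup.normalizer (H : Set X) :=
  Subgroup.mem_normalizer_fintype h

/-- A characteristic subgroup normal in `X` cannot keep `Yb`. -/
theorem not_normal_keepsY (P : Sylow p X) {Yb U : Subgroup X}
    (hYP : Yb ≤ (P : Subgroup X)) (hYc : IsMulCommutative Yb)
    (hPY : (P : Subgroup X) ≤ Subgroup.normalizer (Yb : Set X)) (hYn : ¬ Yb.Normal)
    (hC : Subgroup.centralizer (pCore p X : Set X) ≤ pCore p X)
    (hU : U.Normal) (hK : KeepsY (P : Subgroup X) Yb U) : False := by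
  have hQn := CfsgLib.Solvable.pCore_normal p X
  have hQP : pCore p X ≤ (P : Subgroup X) := CfsgLib.Solvable.pCore_le_sylow P
  have hall : ∀ x : X, x ∈ Subgroup.normalizer (U : Set X) := fun x => by
    rw [Subgroup.normalizer_eq_top]; trivial
  have : (Yb ⊓ pCore p X).Normal := ⟨fun y hy x =>
    ⟨hK x (hall x) y hy.1 (hQP (hQn.conj_mem y hy.2 x)), hQn.conj_mem y hy.2 x⟩⟩
  have hle : Yb ≤ pCore p X := fun y hy => by
    refine mem_core_of_stab hC (R := Yb ⊓ pCore p X) inf_le_right (fun q hq => ⟨?_, ?_⟩)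
      (Subgroup.mem_centralizer_iff.2 fun r hr => ?_)
    · rw [commutatorElement_def, show y * q * y⁻¹ * q⁻¹ = y * (q * y⁻¹ * q⁻¹) by simp [mul_assoc]]
      exact mul_mem hy ((Subgroup.mem_normalizer_iff.1 (hPY (hQP hq)) _).1 (inv_mem hy))
    · show y * q * y⁻¹ * q⁻¹ ∈ pCore p X
      exact mul_mem (hQn.conj_mem q hq y) (inv_mem hq)
    · exact Subgroup.mul_comm_of_mem_isMulCommutative Yb hr.1 hy
  exact hYn (inf_of_le_left hle ▸ this)

/-- **The group theorem.** -/
theorem exists_datum (hp2 : p ≠ 2) (P : Sylow p X) {Yb : Subgroup X}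
    (hYP : Yb ≤ (P : Subgroup X)) (hYc : IsMulCommutative Yb)
    (hPY : (P : Subgroup X) ≤ Subgroup.normalizer (Yb : Set X)) (hYn : ¬ Yb.Normal)
    (hmin : ∀ K : Subgroup X, (P : Subgroup X) ≤ K → K ≠ ⊤ → K ≤ Subgroup.normalizer (Yb : Set X))
    (hC : Subgroup.centralizer (pCore p X : Set X) ≤ pCore p X)
    (hJ : (∀ U : Subgroup X, U ≤ (P : Subgroup X) → U ≠ ⊥ → Canonical (P : Subgroup X) Yb U →
        KeepsY (P : Subgroup X) Yb U) ∨
      (KeepsY (P : Subgroup X) Yb (CfsgLib.PLoc.joinMaxAb 0 (P : Subgroup X)) ∧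
        ∀ A, CfsgLib.PLoc.IsMaxAb 0 (P : Subgroup X) A → Yb ≤ A)) :
    ∃ (Q D D' : Subgroup X) (a n u w y : X) (s t : ℕ),
      IsDatum p (P : Subgroup X) Yb Q D D' a n u w y s t := by
  classical
  set Q := pCore p X with hQdef
  have hQn : Q.Normal := CfsgLib.Solvable.pCore_normal p X
  have hQP : Q ≤ (P : Subgroup X) := CfsgLib.Solvable.pCore_le_sylow P
  have hQp : IsPGroup p Q := CfsgLib.Solvable.pCore_isPGroup p X
  have hM : Subgroup.normalizer (Yb : Set X) ≠ ⊤ := fun h =>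
    hYn (Subgroup.normalizer_eq_top_iff.1 h)
  have hcom : ∀ y ∈ Yb, ∀ z ∈ Yb, y * z = z * y := fun y hy z hz =>
    Subgroup.mul_comm_of_mem_isMulCommutative Yb hy hz
  have htopN : ∀ K : Subgroup X, (P : Subgroup X) ≤ K → K ≤ Subgroup.normalizer (Yb : Set X) ∨ K = ⊤ :=
    fun K hK => by
      by_cases h : K = ⊤
      · exact Or.inr h
      · exact Or.inl (hmin K hK h)
  -- the layer
  have hex : ∃ n, ¬ (lay (P : Subgroup X) Yb n).Normal := by
    obtain ⟨n, hn⟩ := exists_lay_eq P.2 hYP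
    exact ⟨n, by rw [hn]; exact hYn⟩
  obtain ⟨k, hk, hkn⟩ : ∃ k, ¬ (lay (P : Subgroup X) Yb (k + 1)).Normal ∧
      (lay (P : Subgroup X) Yb k).Normal := by
    obtain h0 | h0 := Nat.eq_zero_or_pos (Nat.find hex)
    · refine absurd ?_ (Nat.find_spec hex)
      rw [h0, lay_zero]
      infer_instance
    · obtain ⟨k, hk⟩ := Nat.exists_eq_succ_of_ne_zero h0.ne'
      exact ⟨k, by simpa [hk] using Nat.find_spec hex,
        not_not.1 (Nat.find_min hex (by rw [hk]; exact Nat.lt_succ_self k))⟩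
  set Yk := lay (P : Subgroup X) Yb k with hYkdef
  set T := lay (P : Subgroup X) Yb (k + 1) with hTdef
  have hTY : T ≤ Yb := lay_le _ _ _
  have hYkT : Yk ≤ T := lay_le_succ _ _ _
  have hPT : (P : Subgroup X) ≤ Subgroup.normalizer (T : Set X) := le_normalizer_lay hPY _
  have hTtop : Subgroup.normalizer (T : Set X) ≤ Subgroup.normalizer (Yb : Set X) :=
    (htopN _ hPT).resolve_right fun h => hk (Subgroup.normalizer_eq_top_iff.1 h)
  have hYkQ : Yk ≤ Q :=
    CfsgLib.Solvable.le_pCore hkn (P.2.to_le ((lay_le _ _ _).trans hYP))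
  have hTP : ∀ t ∈ T, ∀ r ∈ (P : Subgroup X), ⁅t, r⁆ ∈ Yk := fun t ht r hr =>
    lay_succ_commutator hPY ht hr
  have hTQ : T ≤ Q := fun t ht => mem_core_of_stab hC (R := Yk) hYkQ
    (fun q hq => hTP t ht q (hQP hq))
    (Subgroup.mem_centralizer_iff.2 fun r hr => hcom r (lay_le _ _ _ hr) t (hTY ht))
  -- the module
  set V := Subgroup.closure {v | ∃ x : X, ∃ t ∈ T, v = x * t * x⁻¹} with hVdef
  have hTV : T ≤ V := fun t ht => Subgroup.subset_closure ⟨1, t, ht, by simp⟩
  have hVQ : V ≤ Q := (Subgroup.closure_le _).2 (by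
    rintro _ ⟨x, t, ht, rfl⟩
    exact hQn.conj_mem t (hTQ ht) x)
  have hVn : V.Normal := ⟨fun v hv g => by
    have hle : V ≤ V.comap (MulAut.conj g).toMonoidHom := (Subgroup.closure_le _).2 (by
      rintro _ ⟨x, t, ht, rfl⟩
      exact Subgroup.subset_closure ⟨g * x, t, ht, by simp [mul_assoc]⟩)
    exact hle hv⟩
  set mk := QuotientGroup.mk' Yk with hmk
  have hVQc : ⁅V, Q⁆ ≤ Yk := by
    have h1 : V ≤ (Subgroup.centralizer ((Q.map mk : Subgroup _) : Set _)).comap mk := by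
      refine (Subgroup.closure_le _).2 ?_
      rintro _ ⟨x, t, ht, rfl⟩
      refine Subgroup.mem_centralizer_iff.2 ?_
      rintro _ ⟨q, hq, rfl⟩
      have h2 := hkn.conj_mem _ (hTP t ht (x⁻¹ * q * x) (hQP (hQn.conj_mem' q hq x))) x
      have h3 : (⁅x * t * x⁻¹, q⁆ : X) ∈ Yk := by
        simpa [commutatorElement_def, mul_assoc] using h2
      have h4 : ⁅mk (x * t * x⁻¹), mk q⁆ = 1 := by
        rw [← map_commutatorElement, hmk, ← MonoidHom.mem_ker, QuotientGroup.ker_mk']
        exact h3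
      exact (commutatorElement_eq_one_iff_mul_comm.1 h4).symm
    rwa [← Subgroup.map_le_iff_le_comap, ← Subgroup.commutator_eq_bot_iff_le_centralizer,
      ← Subgroup.map_commutator, Subgroup.map_eq_bot_iff, hmk, QuotientGroup.ker_mk'] at h1
  have hVV : ⁅V, V⁆ ≤ Yk := (Subgroup.commutator_mono le_rfl hVQ).trans hVQc
  have hYkV : Yk ≤ V := hYkT.trans hTV
  have hPV : (P : Subgroup X) ≤ Subgroup.normalizer (V : Set X) := by
    rw [Subgroup.normalizer_eq_top]; exact le_top
  -- a quadratic element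
  obtain ⟨a₀, ha₀P, ha₀Q, ha₀⟩ : ∃ a ∈ (P : Subgroup X), a ∉ Q ∧ ∀ v ∈ V, ⁅a, ⁅a, v⁆⁆ ∈ Yk := by
    rcases hJ with hgen | ⟨hK, hYA⟩
    · have hTT : ⁅T, T⁆ ≤ Yk := Subgroup.commutator_le.2 fun y hy z hz => by
        rw [commutatorElement_eq_one_iff_mul_comm.2 (hcom y (hTY hy) z (hTY hz))]
        exact one_mem _
      have hconj : ∀ A, IsMaxAbMod Yk (P : Subgroup X) A → A ≤ Q → ∀ x : X,
          IsMaxAbMod Yk (P : Subgroup X) (A.map (MulAut.conj x).toMonoidHom) ∧
            A.map (MulAut.conj x).toMonoidHom ≤ Q := by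
        intro A hA hAQ x
        have hQ' : A.map (MulAut.conj x).toMonoidHom ≤ Q := by
          rintro _ ⟨v, hv, rfl⟩
          exact hQn.conj_mem v (hAQ hv) x
        refine ⟨⟨hQ'.trans hQP, fun v hv => ⟨x⁻¹ * v * x, hA.ge (hkn.conj_mem' v hv x),
          by simp [mul_assoc]⟩, ?_, fun B h1 h2 h3 => ?_⟩, hQ'⟩
        · rw [← Subgroup.map_commutator, Subgroup.map_le_iff_le_comap]
          exact fun v hv => hkn.conj_mem v (hA.comm hv) x
        · rw [Subgroup.card_map_of_injective (MulAut.conj x).injective]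
          exact hA.max B h1 h2 h3
      refine exists_quad_of_family (T := T) (V := V) (IsMaxAbMod Yk (P : Subgroup X))
        (fun A hA => hA.le) (fun A hA => hA.comm) hconj (fun A hA hAQ => ?_) hVdef
        (fun A hA hn => replace_mod P.2 hA (hVQ.trans hQP) hPV hYkV hVV hn) ?_
      · have h1 : ⁅A ⊔ T, A ⊔ T⁆ ≤ Yk := commutator_sup_self_le hA.comm hTT (by
          rw [Subgroup.commutator_comm]
          exact (Subgroup.commutator_mono hTV hAQ).trans hVQc)
        rw [Subgroup.eq_of_le_of_card_ge le_sup_left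
          (hA.max _ (sup_le hA.le (hTQ.trans hQP)) (hA.ge.trans le_sup_left) h1)]
        exact le_sup_right
      · by_contra hall
        push Not at hall
        set U := sSup {A : Subgroup X | IsMaxAbMod Yk (P : Subgroup X) A}
        obtain ⟨A, hA⟩ := exists_isMaxAbMod (N := Yk) (D := (P : Subgroup X)) (hYkQ.trans hQP)
          ((Subgroup.commutator_mono hYkT hYkT).trans hTT)
        have hUne : U ≠ ⊥ := by
          intro h
          have h1 : A = ⊥ := le_bot_iff.1 (h ▸ le_sSup hA)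
          have h2 := hA.max T (hTY.trans hYP) hYkT hTT
          rw [h1, Subgroup.card_bot] at h2
          refine hk ?_
          rw [Subgroup.eq_bot_of_card_le T h2]
          infer_instance
        have hUn : U.Normal := ⟨fun v hv x => by
          have hle : U ≤ U.comap (MulAut.conj x).toMonoidHom := sSup_le fun B hB =>
            Subgroup.map_le_iff_le_comap.1 (le_sSup (hconj B hB (hall B hB) x).1)
          exact hle hv⟩
        refine not_normal_keepsY P hYP hYc hPY hYn hC hUn (hgen U (sSup_le fun B hB => hB.le) hUne ?_)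
        intro e he u hu
        suffices hle : U ≤ ((U.subgroupOf (P : Subgroup X)).comap e.toMonoidHom).map
            (P : Subgroup X).subtype by
          obtain ⟨v, hv, hvu⟩ := hle hu
          exact Subtype.ext hvu ▸ hv
        refine sSup_le fun B hB v hv => ⟨⟨v, hB.le hv⟩, ?_, rfl⟩
        set B' := ((B.subgroupOf (P : Subgroup X)).map e.toMonoidHom).map (P : Subgroup X).subtype
        have hk' : ∀ z : (P : Subgroup X), (z : X) ∈ Yk → (e z : X) ∈ Yk :=
          fun z hz => canonical_lay _ _ k e he z hz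
        have hB' : IsMaxAbMod Yk (P : Subgroup X) B' := by
          refine ⟨Subgroup.map_subtype_le _, fun z hz => ⟨⟨z, hYkQ.trans hQP hz⟩,
            ⟨e.symm ⟨z, hYkQ.trans hQP hz⟩, hB.ge ?_, e.apply_symm_apply _⟩, rfl⟩, ?_,
            fun C h1 h2 h3 => ?_⟩
          · refine canonical_lay _ _ k e.symm (fun y => ?_) ⟨z, hYkQ.trans hQP hz⟩ hz
            simpa using (he (e.symm y)).symm
          · rw [← Subgroup.map_commutator, ← Subgroup.map_commutator]
            rintro _ ⟨_, ⟨c, hc, rfl⟩, rfl⟩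
            refine hk' c (hB.comm ?_)
            have := Subgroup.mem_map_of_mem (P : Subgroup X).subtype hc
            rwa [Subgroup.map_commutator, Subgroup.subgroupOf_map_subtype, inf_of_le_left hB.le]
              at this
          · rw [Subgroup.card_map_of_injective (P : Subgroup X).subtype_injective,
              Subgroup.card_map_of_injective e.injective,
              Nat.card_congr (Subgroup.subgroupOfEquivOfLe hB.le).toEquiv]
            exact hB.max C h1 h2 h3
        exact (le_sSup hB' : B' ≤ U) ⟨e ⟨v, hB.le hv⟩, ⟨⟨v, hB.le hv⟩, hv, rfl⟩, rfl⟩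
    · have hconj : ∀ A, CfsgLib.PLoc.IsMaxAb 0 (P : Subgroup X) A → A ≤ Q → ∀ x : X,
          CfsgLib.PLoc.IsMaxAb 0 (P : Subgroup X) (A.map (MulAut.conj x).toMonoidHom) ∧
            A.map (MulAut.conj x).toMonoidHom ≤ Q := by
        intro A hA hAQ x
        have hQ' : A.map (MulAut.conj x).toMonoidHom ≤ Q := by
          rintro _ ⟨v, hv, rfl⟩
          exact hQn.conj_mem v (hAQ hv) x
        refine ⟨⟨hQ'.trans hQP, ?_, fun a _ => pow_zero a, fun B h1 h2 h3 => ?_⟩, hQ'⟩
        · haveI := hA.comm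
          infer_instance
        · rw [Subgroup.card_map_of_injective (MulAut.conj x).injective]
          exact hA.max B h1 h2 h3
      refine exists_quad_of_family (T := T) (V := V) (CfsgLib.PLoc.IsMaxAb 0 (P : Subgroup X))
        (fun A hA => hA.le) (fun A hA => ?_) hconj (fun A hA _ => hTY.trans (hYA A hA)) hVdef
        (fun A hA hn => replace_ab hp2 P.2 hA (hVQ.trans hQP) hPV
          (hVV.trans ((lay_le _ _ _).trans (hYA A hA))) hn) ?_
      · haveI := hA.comm
        rw [Subgroup.commutator_self_eq_bot_iff.2 hA.comm]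
        exact bot_le
      · by_contra hall
        push Not at hall
        have hUn : (CfsgLib.PLoc.joinMaxAb 0 (P : Subgroup X)).Normal := ⟨fun v hv x => by
          have hle : CfsgLib.PLoc.joinMaxAb 0 (P : Subgroup X) ≤
              (CfsgLib.PLoc.joinMaxAb 0 (P : Subgroup X)).comap (MulAut.conj x).toMonoidHom :=
            sSup_le fun B hB =>
              Subgroup.map_le_iff_le_comap.1 (le_sSup (hconj B hB (hall B hB) x).1)
          exact hle hv⟩
        exact not_normal_keepsY P hYP hYc hPY hYn hC hUn hK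
  -- the action on `V / Yk`
  set Vb := V.map mk with hVbdef
  have hVbn : Vb.Normal := hVn.map _ (QuotientGroup.mk'_surjective _)
  have hVbc : ∀ x y : Vb, x * y = y * x := by
    rintro ⟨_, v, hv, rfl⟩ ⟨_, v', hv', rfl⟩
    refine Subtype.ext (commutatorElement_eq_one_iff_mul_comm.1 ?_)
    rw [← map_commutatorElement, hmk, ← MonoidHom.mem_ker, QuotientGroup.ker_mk']
    exact hVV (Subgroup.commutator_mem_commutator hv hv')
  letI : CommGroup Vb := { (inferInstance : Group Vb) with mul_comm := hVbc }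
  let val : Additive Vb → X ⧸ Yk := fun z => ((Additive.toMul z : Vb) : X ⧸ Yk)
  let σ : X →* AddMonoid.End (Additive Vb) :=
    { toFun := fun x => MonoidHom.toAdditive (MulAut.conjNormal (mk x) : MulAut Vb).toMonoidHom
      map_one' := by rw [map_one, map_one]; rfl
      map_mul' := fun x y => by rw [map_mul, map_mul]; rfl }
  have hσv : ∀ x z, val (σ x z) = mk x * val z * (mk x)⁻¹ := fun x z =>
    MulAut.conjNormal_apply (mk x) (Additive.toMul z)
  have hsub : ∀ z z', val (z - z') = val z * (val z')⁻¹ := fun z z' =>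
    div_eq_mul_inv (val z) (val z')
  have hval : ∀ z z', val z = val z' → z = z' := fun z z' h => Subtype.ext h
  have hlift : ∀ z, ∃ v ∈ V, mk v = val z := fun z => (Additive.toMul z : Vb).2
  have hofV : ∀ v ∈ V, ∃ z, val z = mk v := fun v hv =>
    ⟨Additive.ofMul (⟨mk v, v, hv, rfl⟩ : Vb), rfl⟩
  have hquad : ∀ x, (∀ v ∈ V, ⁅x, ⁅x, v⁆⁆ ∈ Yk) → ∀ z, σ x (σ x z - z) = σ x z - z := by
    intro x hx z
    obtain ⟨v, hv, hvz⟩ := hlift z
    apply hval
    have h1 : mk ⁅x, ⁅x, v⁆⁆ = 1 := (QuotientGroup.eq_one_iff _).2 (hx v hv)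
    rw [map_commutatorElement, commutatorElement_eq_one_iff_mul_comm, map_commutatorElement,
      hvz, commutatorElement_def] at h1
    rw [hσv, hsub, hσv, h1, mul_inv_cancel_right]
  let M := Subgroup.normalizer (Yb : Set X)
  have hkerM : σ.ker ≤ M := by
    rcases htopN (σ.ker ⊔ (P : Subgroup X)) le_sup_right with h | h
    · exact le_sup_left.trans h
    · refine absurd ?_ hk
      refine Subgroup.normalizer_eq_top_iff.1 (top_le_iff.1 (h.ge.trans (sup_le (fun x hx => ?_) hPT)))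
      refine mem_normalizer_of_forall fun t ht => ?_
      obtain ⟨z, hz⟩ := hofV t (hTV ht)
      have h1 : mk (x * t * x⁻¹) = mk t := by
        have h2 := hσv x z
        rw [MonoidHom.mem_ker.1 hx, show (1 : AddMonoid.End (Additive Vb)) z = z from rfl, hz] at h2
        rw [map_mul, map_mul, map_inv, ← h2]
      have h3 := hYkT (QuotientGroup.eq.1 h1.symm)
      simpa [mul_assoc] using mul_mem ht h3
  have hkerQ : σ.ker ⊓ (P : Subgroup X) ≤ Q := by
    have hf := CfsgLib.PLocal.frattini_inf P σ.ker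
    rw [inf_comm]
    rcases htopN (Subgroup.normalizer (((P : Subgroup X) ⊓ σ.ker : Subgroup X) : Set X))
      ((le_inf Subgroup.le_normalizer (by rw [Subgroup.normalizer_eq_top]; exact le_top)).trans
        Subgroup.inf_normalizer_le_normalizer_inf) with h | h
    · exact absurd (top_le_iff.1 (hf.ge.trans (sup_le hkerM h))) hM
    · exact CfsgLib.Solvable.le_pCore (Subgroup.normalizer_eq_top_iff.1 h) (P.2.to_le inf_le_left)
  let ℱ : Set (Subgroup X) :=
    {F | ∃ x, F = Subgroup.zpowers x ∧ σ x ≠ 1 ∧ ∀ z, σ x (σ x z - z) = σ x z - z}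
  have hconjℱ : ∀ F ∈ ℱ, ∀ g : X, F.map (MulAut.conj g).toMonoidHom ∈ ℱ := by
    rintro _ ⟨x, rfl, hx1, hxq⟩ g
    refine ⟨g * x * g⁻¹, by rw [MonoidHom.map_zpowers]; rfl, fun h => hx1 ?_, fun z => ?_⟩
    · have : σ x = σ (g⁻¹ * (g * x * g⁻¹) * g) := by simp [mul_assoc]
      rw [this, map_mul, map_mul, h, mul_one, ← map_mul, inv_mul_cancel, map_one]
    · have h1 := congrArg (σ g) (hxq (σ g⁻¹ z))
      simp only [map_sub, ← act_pair, mul_inv_cancel, act_one_apply, mul_assoc, inv_mul_cancel_left]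
        at h1 ⊢
      exact h1
  have ha₀σ : σ a₀ ≠ 1 := fun h => ha₀Q (hkerQ ⟨MonoidHom.mem_ker.2 h, ha₀P⟩)
  have hNF : Subgroup.normalizer (CfsgLib.OffenderPair.famJoin ℱ (P : Subgroup X) : Set X) ≤ M :=
    (htopN _ (Subgroup.le_normalizer.trans
      (CfsgLib.OffenderPair.normalizer_le_normalizer_famJoin hconjℱ _))).resolve_right fun h => by
      refine ha₀Q ?_
      have h1 : CfsgLib.OffenderPair.famJoin ℱ (P : Subgroup X) ≤ Q := CfsgLib.Solvable.le_pCore
        (Subgroup.normalizer_eq_top_iff.1 h) (P.2.to_le (CfsgLib.OffenderPair.famJoin_le _ _))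
      exact h1 (CfsgLib.OffenderPair.le_famJoin
        (show Subgroup.zpowers a₀ ∈ ℱ from ⟨a₀, rfl, ha₀σ, hquad a₀ ha₀⟩)
        (Subgroup.zpowers_le.2 ha₀P) (Subgroup.mem_zpowers a₀))
  obtain ⟨L, _, ⟨a, rfl, ha1, haq⟩, hBL, hPT'⟩ :=
    CfsgLib.OffenderPair.exists_pair (p := p) hM P hPY ℱ hconjℱ hNF
  have haL : a ∈ L := hBL (Subgroup.mem_zpowers a)
  have haM : a ∈ M := hPT'.le (show (⟨a, haL⟩ : L) ∈ (Subgroup.zpowers a).subgroupOf L from
    Subgroup.mem_zpowers a)
  -- the section lemma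
  set W := (Yb ⊓ V).map mk with hWdef
  let E : AddSubgroup (Additive Vb) := Subgroup.toAddSubgroup (W.subgroupOf Vb)
  have hEmem : ∀ z, z ∈ E ↔ val z ∈ W := fun z => Iff.rfl
  have hYVM : M ≤ Subgroup.normalizer ((Yb ⊓ V : Subgroup X) : Set X) :=
    (le_inf le_rfl (by rw [Subgroup.normalizer_eq_top]; exact le_top)).trans
      Subgroup.inf_normalizer_le_normalizer_inf
  have hEinv : ∀ m ∈ M, ∀ z ∈ E, σ m z ∈ E := by
    intro m hm z hz
    obtain ⟨v, hv, hvz⟩ := (hEmem z).1 hz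
    rw [hEmem, hσv, ← hvz, ← map_inv, ← map_mul, ← map_mul]
    exact ⟨_, (Subgroup.mem_normalizer_iff.1 (hYVM hm) v).1 hv, rfl⟩
  have hEtop : E = ⊤ ∨ ¬ IsInv (σ.comp L.subtype) E := by
    rcases htopN _ (hPY.trans hYVM) with h | h
    · refine Or.inr fun hinv => hPT'.ne_top (Subgroup.subgroupOf_eq_top.2 fun l hl => h ?_)
      refine mem_normalizer_of_forall fun v hv => ?_
      obtain ⟨z, hz⟩ := hofV v hv.2
      obtain ⟨v', hv', hvv⟩ := (hEmem _).1 (hinv ⟨l, hl⟩ z ((hEmem z).2 ⟨v, hv, hz.symm⟩))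
      have h1 : mk v' = mk (l * v * l⁻¹) := by
        rw [hvv, map_mul, map_mul, map_inv, ← hz]
        exact hσv l z
      have h2 : v'⁻¹ * (l * v * l⁻¹) ∈ Yb ⊓ V :=
        ⟨lay_le _ _ _ (QuotientGroup.eq.1 h1), hYkV (QuotientGroup.eq.1 h1)⟩
      simpa using mul_mem hv' h2
    · left
      have hVY : V ≤ Yb := by
        have hn : (Yb ⊓ V).Normal := Subgroup.normalizer_eq_top_iff.1 h
        refine (Subgroup.closure_le _).2 ?_
        rintro _ ⟨x, t, ht, rfl⟩
        exact (hn.conj_mem t ⟨hTY ht, hTV ht⟩ x).1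
      refine eq_top_iff.2 fun z _ => (hEmem z).2 ?_
      obtain ⟨v, hv, hvz⟩ := hlift z
      exact ⟨v, ⟨hVY hv, hv⟩, hvz⟩
  have hU : ∀ z : Additive Vb, ∃ k : ℕ, p ^ k • z = 0 := fun z => by
    obtain ⟨k, hk⟩ := ((P.2.to_le (hVQ.trans hQP)).map mk) (Additive.toMul z)
    exact ⟨k, hk⟩
  obtain ⟨D₂, n, s, t, zu, zw, zy, hD₂, hn, hso, hst, hu, hpu, hpw, hau, haw, hnu, hnw, hyE, hyD, hny⟩ :=
    exists_section (p := p) hp2 (σ.comp L.subtype) hU (M := M.subgroupOf L) hPT'.ne_top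
      (a := ⟨a, haL⟩) haM
      (fun R haR hR => hPT'.cover R (fun x hx => by
        obtain ⟨i, hi⟩ := Subgroup.mem_zpowers_iff.1 (show (x : X) ∈ Subgroup.zpowers a from hx)
        exact (Subtype.ext hi : (⟨a, haL⟩ : L) ^ i = x) ▸ zpow_mem haR i) hR)
      (fun x hx => by
        rw [eq_top_iff, ← hPT'.gen hx]
        refine sup_le (fun b hb => ?_) (Subgroup.map_le_iff_le_comap.2 fun b hb => ?_) <;>
          obtain ⟨i, hi⟩ := Subgroup.mem_zpowers_iff.1 (show (b : X) ∈ Subgroup.zpowers a from hb) <;>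
          rw [← (Subtype.ext hi : (⟨a, haL⟩ : L) ^ i = b)]
        · refine zpow_mem (Subgroup.subset_closure ?_) _
          exact Set.mem_insert _ _
        · rw [Subgroup.mem_comap, map_zpow]
          refine zpow_mem (Subgroup.subset_closure ?_) _
          exact Set.mem_insert_of_mem _ rfl)
      (fun l hl => hkerM hl) haq E (fun m hm => hEinv _ hm) hEtop
  -- back to subgroups
  set D' := ((AddSubgroup.toSubgroup' D₂).map Vb.subtype).comap mk with hD'def
  have hD'mem : ∀ (v : X) z, mk v = val z → (v ∈ D' ↔ z ∈ D₂) := by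
    intro v z h
    constructor
    · rintro ⟨r, hr, hrv⟩
      exact (hval (Additive.ofMul r) z (hrv.trans h) : Additive.ofMul r = z) ▸ hr
    · exact fun hz => ⟨Additive.toMul z, hz, h.symm⟩
  have hD'V : D' ≤ V := by
    intro v hv
    obtain ⟨r, -, hrv⟩ := hv
    obtain ⟨v', hv', hvv⟩ := r.2
    have h1 : v'⁻¹ * v ∈ V := hYkV (QuotientGroup.eq.1 (hvv.trans hrv))
    simpa using mul_mem hv' h1
  have hYkD' : Yk ≤ D' := fun v hv =>
    ⟨1, one_mem _, by rw [map_one]; exact ((QuotientGroup.eq_one_iff v).2 hv).symm⟩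
  have hinvD' : ∀ l ∈ L, l ∈ Subgroup.normalizer (D' : Set X) := fun l hl =>
    mem_normalizer_of_forall fun v hv => by
      obtain ⟨z, hz⟩ := hofV v (hD'V hv)
      refine (hD'mem _ (σ l z) ?_).2 (hD₂ ⟨l, hl⟩ z ((hD'mem v z hz.symm).1 hv))
      rw [hσv, hz, map_mul, map_mul, map_inv]
  obtain ⟨u, huV, huv⟩ := hlift zu
  obtain ⟨w, hwV, hwv⟩ := hlift zw
  obtain ⟨y, hy, hyv⟩ := (hEmem zy).1 hyE
  have hrel : ∀ (x : X) (z r : Additive Vb) (v e : X), mk v = val z → mk e = val r →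
      (x * v * x⁻¹ * e⁻¹ ∈ D' ↔ σ x z - r ∈ D₂) := fun x z r v e h h' => hD'mem _ _ (by
    rw [hsub, hσv, ← h, ← h', map_mul, map_mul, map_mul, map_inv, map_inv])
  have hpow : ∀ (z : Additive Vb) (v : X) (m : ℕ), mk v = val z → mk (v ^ m) = val (m • z) :=
    fun z v m h => by rw [map_pow, h]; rfl
  have hau' : a * u * a⁻¹ * u⁻¹ ∈ D' := (hrel a zu zu u u huv huv).2 hau
  have haw' : a * w * a⁻¹ * w⁻¹ * u⁻¹ ∈ D' := (hD'mem _ _ (by
    rw [hsub, hsub, show val ((σ.comp L.subtype) ⟨a, haL⟩ zw) = _ from hσv a zw, ← huv, ← hwv,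
      map_mul, map_mul, map_mul, map_mul, map_inv, map_inv, map_inv])).2 haw
  have hnu' : (n : X) * u * (n : X)⁻¹ * (u ^ s)⁻¹ ∈ D' :=
    (hrel n zu _ u _ huv (hpow zu u s huv)).2 hnu
  have hnw' : (n : X) * w * (n : X)⁻¹ * (w ^ t)⁻¹ ∈ D' :=
    (hrel n zw _ w _ hwv (hpow zw w t hwv)).2 hnw
  set D := D' ⊔ Subgroup.zpowers u ⊔ Subgroup.zpowers w with hDdef
  have hD'D : D' ≤ D := le_sup_left.trans le_sup_left
  have huD : u ∈ D := Subgroup.mem_sup_left (Subgroup.mem_sup_right (Subgroup.mem_zpowers u))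
  have hwD : w ∈ D := Subgroup.mem_sup_right (Subgroup.mem_zpowers w)
  have hDV : D ≤ V := sup_le (sup_le hD'V (Subgroup.zpowers_le.2 huV)) (Subgroup.zpowers_le.2 hwV)
  have hND : ∀ l ∈ L, l * u * l⁻¹ ∈ D → l * w * l⁻¹ ∈ D → l ∈ Subgroup.normalizer (D : Set X) := by
    intro l hl h1 h2
    refine mem_normalizer_of_forall fun x hx => ?_
    have hle : D ≤ D.comap (MulAut.conj l).toMonoidHom := sup_le (sup_le
      (fun v hv => hD'D ((Subgroup.mem_normalizer_iff.1 (hinvD' l hl) v).1 hv))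
      (Subgroup.zpowers_le.2 h1)) (Subgroup.zpowers_le.2 h2)
    exact hle hx
  refine ⟨Q, D, D', a, n, u, w, y, s, t,
    ⟨hQP, hD'D, hDV.trans hVQ, ?_, ?_, haM, hn, ?_, ?_, hinvD' a haL, hinvD' n n.2,
      (Subgroup.commutator_mono hDV hDV).trans (hVV.trans hYkD'), hDdef, hso, hst,
      fun h => hu ((hD'mem u zu huv).1 h), (hD'mem _ _ (hpow zu u p huv)).2 hpu,
      (hD'mem _ _ (hpow zw w p hwv)).2 hpw, hau', haw', hnu', hnw', hy.1, hVQ hy.2,
      fun h => hyD ((hD'mem y zy hyv).1 h),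
      (hrel n zy _ y _ hyv (hpow zy y s hyv)).2 hny⟩⟩
  · rw [Subgroup.normalizer_eq_top]; trivial
  · rw [Subgroup.normalizer_eq_top]; trivial
  · exact hND a haL (by simpa [mul_assoc] using mul_mem (hD'D hau') huD)
      (by simpa [mul_assoc] using mul_mem (mul_mem (hD'D haw') huD) hwD)
  · exact hND n n.2 (by simpa [mul_assoc] using mul_mem (hD'D hnu') (pow_mem huD s))
      (by simpa [mul_assoc] using mul_mem (hD'D hnw') (pow_mem hwD t))

end CfsgLib.ZJFusion
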