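import Cfsg.Agent.Lib.LocalEven.Involves
import Cfsg.Agent.Lib.PLocal.SylowAux
import Mathlib.LinearAlgebra.Matrix.ToLin
import Mathlib.GroupTheory.SpecificGroups.Cyclic

/-!
# Recognizing `F(p)`; the eigenvector

`involves_fOver`: a transvection and a torus element on a two-dimensional section `D / D'` give
`F(p)`.  `exists_eigen`, `relIndex_of_conj`: the subgroup of order `p` with index `p - 1`.
-/

set_option autoImplicit false
set_option linter.style.haveILetI false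
set_option maxHeartbeats 800000

namespace CfsgLib.ZJFusion

open Cfsg Matrix
open scoped commutatorElement MatrixGroups

variable {G : Type*} [Group G] [Finite G] {p : ℕ} [Fact p.Prime]

theorem involves_of_injective_subtype {H : Type*} [Group H] {G : Type*} [Group G] {K : Subgroup G}
    (L : Subgroup K) (h : Cfsg.Involves H L) : Cfsg.Involves H G := by
  obtain ⟨M, f, hf⟩ := CfsgLib.LocalEven.exists_surjective_of_involves h
  have hi : Function.Injective (K.subtype.comp L.subtype) :=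
    K.subtype_injective.comp L.subtype_injective
  exact CfsgLib.LocalEven.involves_of_surjective (M.map (K.subtype.comp L.subtype))
    (f.comp (M.equivMapOfInjective _ hi).symm.toMonoidHom)
    (hf.comp (M.equivMapOfInjective _ hi).symm.surjective)

/-! ### The eigenvector -/

omit [Finite G] in
theorem isPGroup_zpowers_two {x : G} (k : ℕ) (hx : x ^ 2 ^ k = 1) : IsPGroup 2 (Subgroup.zpowers x) := by
  rintro ⟨y, m, rfl⟩
  refine ⟨k, Subtype.ext ?_⟩
  show (x ^ m) ^ 2 ^ k = 1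
  rw [← zpow_natCast, zpow_comm, zpow_natCast, hx, _root_.one_zpow]

theorem exists_eigen {A A' : Subgroup G} (hA : IsPGroup p A) (hAc : IsMulCommutative A)
    (hle : A' ≤ A) {n : G} (hn : ∀ x ∈ A, n * x * n⁻¹ ∈ A) (hn' : ∀ x ∈ A', n * x * n⁻¹ ∈ A')
    {y : G} (hy : y ∈ A) (hy' : y ∉ A') {s : ℕ} (hys : n * y * n⁻¹ * (y ^ s)⁻¹ ∈ A') :
    ∃ c ∈ A, c ≠ 1 ∧ c ^ p = 1 ∧ n * c * n⁻¹ = c ^ s := by
  have hc : ∀ {a b : G}, a ∈ A → b ∈ A → a * b = b * a := fun ha hb =>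
    Subgroup.mul_comm_of_mem_isMulCommutative A ha hb
  let f : A →* A := MonoidHom.mk'
    (fun x => ⟨n * x * n⁻¹ * ((x : G) ^ s)⁻¹,
      mul_mem (hn x x.2) (inv_mem (pow_mem x.2 s))⟩) fun x z => Subtype.ext (by
    show n * ((x : G) * z) * n⁻¹ * (((x : G) * z) ^ s)⁻¹ =
      n * x * n⁻¹ * ((x : G) ^ s)⁻¹ * (n * z * n⁻¹ * ((z : G) ^ s)⁻¹)
    rw [(show Commute (x : G) z from hc x.2 z.2).mul_pow, hc (pow_mem x.2 s) (pow_mem z.2 s),
      _root_.mul_inv_rev]
    have h1 := hc (inv_mem (pow_mem x.2 s)) (hn z z.2)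
    calc n * ((x : G) * z) * n⁻¹ * (((x : G) ^ s)⁻¹ * ((z : G) ^ s)⁻¹)
        = n * x * n⁻¹ * (n * z * n⁻¹ * ((x : G) ^ s)⁻¹) * ((z : G) ^ s)⁻¹ := by simp [mul_assoc]
      _ = n * x * n⁻¹ * (((x : G) ^ s)⁻¹ * (n * z * n⁻¹)) * ((z : G) ^ s)⁻¹ := by rw [h1]
      _ = _ := by simp [mul_assoc])
  by_cases hf : Function.Injective f
  · exfalso
    let f' : A' → A' := fun x => ⟨n * x * n⁻¹ * ((x : G) ^ s)⁻¹,
      mul_mem (hn' x x.2) (inv_mem (pow_mem x.2 s))⟩
    have hi : Function.Injective f' := fun x z h => by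
      have h1 : n * (x : G) * n⁻¹ * ((x : G) ^ s)⁻¹ = n * (z : G) * n⁻¹ * ((z : G) ^ s)⁻¹ :=
        congrArg Subtype.val h
      exact Subgroup.inclusion_injective hle
        (hf (Subtype.ext h1 : f (Subgroup.inclusion hle x) = f (Subgroup.inclusion hle z)))
    obtain ⟨x, hx⟩ := Finite.injective_iff_surjective.1 hi ⟨_, hys⟩
    have h2 : f (Subgroup.inclusion hle x) = f ⟨y, hy⟩ :=
      Subtype.ext (congrArg Subtype.val hx :)
    have h3 : (x : G) = y := congrArg Subtype.val (hf h2)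
    exact hy' (h3 ▸ x.2)
  · rw [injective_iff_map_eq_one] at hf
    push Not at hf
    obtain ⟨z, hz, hz1⟩ := hf
    have hz' : n * (z : G) * n⁻¹ = (z : G) ^ s := mul_inv_eq_one.1 (congrArg Subtype.val hz)
    obtain ⟨k, hk⟩ := hA z
    have hk' : (z : G) ^ p ^ k = 1 := congrArg Subtype.val hk
    obtain ⟨m, -, hm⟩ := (Nat.dvd_prime_pow Fact.out).1 (orderOf_dvd_of_pow_eq_one hk')
    have hm0 : m ≠ 0 := fun h => hz1 (Subtype.ext (orderOf_eq_one_iff.1 (by rw [hm, h, pow_zero])))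
    obtain ⟨j, rfl⟩ := Nat.exists_eq_succ_of_ne_zero hm0
    refine ⟨(z : G) ^ p ^ j, pow_mem z.2 _, fun h => ?_, ?_, ?_⟩
    · have h1 := orderOf_dvd_of_pow_eq_one h
      rw [hm, Nat.pow_dvd_pow_iff_le_right (Fact.out : p.Prime).one_lt] at h1
      omega
    · rw [← pow_mul, ← pow_succ, ← Nat.succ_eq_add_one, ← hm, pow_orderOf_eq_one]
    · rw [← conj_pow, hz', ← pow_mul, mul_comm, pow_mul]

theorem relIndex_of_conj {H : Subgroup G} {c n : G} (hn : n ∈ H) (hc1 : c ≠ 1) (hcp : c ^ p = 1)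
    {s : ℕ} (hs : orderOf (s : ZMod p) = p - 1) (hnc : n * c * n⁻¹ = c ^ s) :
    Nat.card (Subgroup.zpowers c) = p ∧
      (H ⊓ Subgroup.centralizer (Subgroup.zpowers c : Set G)).relIndex
        (H ⊓ Subgroup.normalizer (Subgroup.zpowers c : Set G)) = p - 1 := by
  have hp : p.Prime := Fact.out
  set C := Subgroup.zpowers c
  have hord : orderOf c = p := orderOf_eq_prime hcp hc1
  have hcard : Nat.card C = p := by rw [Nat.card_zpowers, hord]
  refine ⟨hcard, ?_⟩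
  have hnN : n ∈ Subgroup.normalizer (C : Set G) := by
    refine Subgroup.mem_normalizer_fintype ?_
    rintro _ ⟨i, rfl⟩
    show n * c ^ i * n⁻¹ ∈ C
    rw [← conj_zpow, hnc]
    exact zpow_mem (pow_mem (Subgroup.mem_zpowers c) _) _
  set N := H ⊓ Subgroup.normalizer (C : Set G) with hN
  let ψ : N →* MulAut C := C.normalizerMonoidHom.comp (Subgroup.inclusion inf_le_right)
  have hker : ψ.ker = (H ⊓ Subgroup.centralizer (C : Set G)).subgroupOf N := by
    ext x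
    rw [MonoidHom.mem_ker, MonoidHom.comp_apply, ← MonoidHom.mem_ker,
      Subgroup.normalizerMonoidHom_ker]
    exact ⟨fun h => ⟨x.2.1, h⟩, fun h => h.2⟩
  rw [Subgroup.relIndex, ← hker, Subgroup.index_ker]
  refine le_antisymm ?_ ?_
  · calc Nat.card ψ.range ≤ Nat.card (MulAut C) :=
          Nat.card_le_card_of_injective _ Subtype.val_injective
      _ = p - 1 := by
          haveI : IsCyclic C := isCyclic_of_prime_card hcard
          rw [IsCyclic.card_mulAut, hcard, Nat.totient_prime hp]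
  · let x : ψ.range := ⟨ψ ⟨n, hn, hnN⟩, _, rfl⟩
    refine le_trans ?_ (Nat.le_of_dvd Nat.card_pos (orderOf_dvd_natCard x))
    rw [← Subgroup.orderOf_coe]
    refine Nat.le_of_dvd (orderOf_pos _) ?_
    rw [← hs]
    refine orderOf_dvd_of_pow_eq_one ?_
    set m := orderOf (x : MulAut C)
    have hpow : ∀ k : ℕ, n ^ k * c * (n ^ k)⁻¹ = c ^ s ^ k := by
      intro k
      induction k with
      | zero => simp
      | succ k ih =>
        calc n ^ (k + 1) * c * (n ^ (k + 1))⁻¹ = n * (n ^ k * c * (n ^ k)⁻¹) * n⁻¹ := by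
              rw [pow_succ']; simp [mul_assoc]
          _ = _ := by rw [ih, ← conj_pow, hnc, ← pow_mul, ← pow_succ']
    have h1 : (x : MulAut C) ^ m = 1 := pow_orderOf_eq_one _
    rw [show (x : MulAut C) = ψ ⟨n, hn, hnN⟩ from rfl, ← map_pow] at h1
    have h2 : n ^ m * c * (n ^ m)⁻¹ = c := by
      have h3 := congrArg (fun z : C => (z : G))
        (DFunLike.congr_fun h1 (⟨c, Subgroup.mem_zpowers c⟩ : C))
      exact h3
    rw [hpow] at h2
    rw [← Nat.cast_pow, ← Nat.cast_one, ZMod.natCast_eq_natCast_iff, ← hord, ← pow_eq_pow_iff_modEq,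
      h2, pow_one]

/-! ### `F(p)` -/

/-- The affine matrix of `(M, v)`. -/
def aff (M : Matrix (Fin 2) (Fin 2) (ZMod p)) (v : Fin 2 → ZMod p) :
    Matrix (Fin 3) (Fin 3) (ZMod p) :=
  !![M 0 0, M 0 1, v 0; M 1 0, M 1 1, v 1; 0, 0, 1]

theorem aff_mul (M M' : Matrix (Fin 2) (Fin 2) (ZMod p)) (v v' : Fin 2 → ZMod p) :
    aff M v * aff M' v' = aff (M * M') (v + M *ᵥ v') := by
  ext i j
  fin_cases i <;> fin_cases j <;>
    simp [aff, Matrix.mul_apply, Fin.sum_univ_two, Fin.sum_univ_three, Matrix.mulVec, dotProduct] <;> ring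

theorem det_aff (M : Matrix (Fin 2) (Fin 2) (ZMod p)) (v : Fin 2 → ZMod p) :
    (aff M v).det = M.det := by
  simp [aff, Matrix.det_fin_three, Matrix.det_fin_two]

/-- A group acting on a translation part through all of the upper triangular group. -/
theorem involves_of_coords (hp2 : p ≠ 2) {D : Subgroup G} [hDn : D.Normal] (hDp : IsPGroup p D)
    (ρ : G →* Matrix (Fin 2) (Fin 2) (ZMod p)) (hB : ∀ g, ρ g 1 0 = 0 ∧ ρ g 0 0 * ρ g 1 1 = 1)
    (co : D → (Fin 2 → ZMod p)) (hcomul : ∀ d d', co (d * d') = co d + co d')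
    (hcos : Function.Surjective co) (hρD : ∀ d ∈ D, ρ d = 1)
    (hconj : ∀ (g : G) (d : D), co ⟨g * d * g⁻¹, hDn.conj_mem d d.2 g⟩ = ρ g *ᵥ co d)
    {a n : G} {s t : ℕ} (hs : orderOf (s : ZMod p) = p - 1) (hst : (s : ZMod p) * t = 1)
    (hRa : ρ a = !![1, 1; 0, 1]) (hRn : ρ n = !![(s : ZMod p), 0; 0, (t : ZMod p)]) :
    Cfsg.Involves ↥(Cfsg.fOver (ZMod p)) G := by
  classical
  have hp : p.Prime := Fact.out
  let K1 : Subgroup G :=
    { carrier := {g | ρ g = 1 ∨ ρ g = -1}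
      one_mem' := Or.inl (map_one ρ)
      mul_mem' := fun {g h} hg hh => by
        rw [Set.mem_ofPred_eq, map_mul]
        rcases hg with hg | hg <;> rcases hh with hh | hh <;> simp [hg, hh]
      inv_mem' := fun {g} hg => by
        have h1 : ρ g * ρ g⁻¹ = 1 := by rw [← map_mul, mul_inv_cancel, map_one]
        rcases hg with hg | hg
        · exact Or.inl (by rwa [hg, one_mul] at h1)
        · exact Or.inr (by rwa [hg, neg_one_mul, neg_eq_iff_eq_neg] at h1) }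
  have hK1n : K1.Normal := ⟨fun g hg b => by
    have h1 : ρ (b * g * b⁻¹) = ρ b * ρ g * ρ b⁻¹ := by rw [map_mul, map_mul]
    have h2 : ρ b * ρ b⁻¹ = 1 := by rw [← map_mul, mul_inv_cancel, map_one]
    rcases hg with hg | hg
    · exact Or.inl (by rw [h1, hg, mul_one, h2])
    · exact Or.inr (by rw [h1, hg, mul_neg, mul_one, neg_mul, h2])⟩
  haveI : Fact (Nat.Prime 2) := ⟨Nat.prime_two⟩
  obtain ⟨T2⟩ : Nonempty (Sylow 2 K1) := inferInstance
  set Nn := Subgroup.normalizer (((T2 : Subgroup K1).map K1.subtype : Subgroup G) : Set G) with hNn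
  have hfrat : Nn ⊔ K1 = ⊤ := Sylow.normalizer_sup_eq_top T2
  have hnpow : ∀ k : ℕ, ρ (n ^ k) = !![(s : ZMod p) ^ k, 0; 0, (t : ZMod p) ^ k] := by
    intro k
    induction k with
    | zero =>
      rw [pow_zero, map_one, pow_zero, pow_zero]
      exact Matrix.one_fin_two
    | succ k ih =>
      rw [pow_succ, map_mul, ih, hRn, Matrix.mul_fin_two]
      simp [pow_succ]
  -- an element of `T2` acting as `-1`
  obtain ⟨j, hjT, hj⟩ : ∃ j : G, j ∈ (T2 : Subgroup K1).map K1.subtype ∧ ρ j = -1 := by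
    obtain ⟨c, hc⟩ := hp.odd_of_ne_two hp2
    have hsc : (s : ZMod p) ^ c = -1 := by
      have h1 : ((s : ZMod p) ^ c) * (s : ZMod p) ^ c = 1 := by
        rw [← pow_add, show c + c = p - 1 by omega, ← hs, pow_orderOf_eq_one]
      refine (mul_self_eq_one_iff.1 h1).resolve_left fun h => ?_
      have h2 := orderOf_dvd_of_pow_eq_one h
      rw [hs] at h2
      have := hp.two_le
      have := Nat.le_of_dvd (by omega) h2
      omega
    have htc : (t : ZMod p) ^ c = -1 := by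
      have h1 : (s : ZMod p) ^ c * (t : ZMod p) ^ c = 1 := by rw [← mul_pow, hst, one_pow]
      rw [hsc] at h1
      linear_combination -h1
    have hj₀ρ : ρ (n ^ c) = -1 := by
      rw [hnpow, hsc, htc]
      ext i k
      fin_cases i <;> fin_cases k <;> simp
    obtain ⟨e', m, hm, hem⟩ :=
      Nat.exists_eq_pow_mul_and_not_dvd (orderOf_pos (n ^ c)).ne' 2 (by norm_num)
    have hjm : ρ ((n ^ c) ^ m) = -1 := by
      rw [map_pow, hj₀ρ]
      exact (Nat.not_even_iff_odd.1 fun h => hm (even_iff_two_dvd.1 h)).neg_one_pow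
    let jK : K1 := ⟨(n ^ c) ^ m, Or.inr hjm⟩
    have hjK : IsPGroup 2 (Subgroup.zpowers jK) := isPGroup_zpowers_two e' (Subtype.ext (by
      show ((n ^ c) ^ m) ^ 2 ^ e' = 1
      rw [← pow_mul, mul_comm, ← hem, pow_orderOf_eq_one]))
    obtain ⟨S2, hS2⟩ := hjK.exists_le_sylow
    obtain ⟨g, hg⟩ := MulAction.exists_smul_eq K1 S2 T2
    have hmem : g * jK * g⁻¹ ∈ (T2 : Subgroup K1) := by
      rw [← hg, Sylow.coe_subgroup_smul]
      exact ⟨jK, hS2 (Subgroup.mem_zpowers _), rfl⟩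
    refine ⟨((g * jK * g⁻¹ : K1) : G), ⟨g * jK * g⁻¹, hmem, rfl⟩, ?_⟩
    show ρ ((g : G) * (jK : G) * (g : G)⁻¹) = -1
    rw [map_mul, map_mul, show ρ (jK : G) = -1 from hjm, mul_neg, mul_one, neg_mul, ← map_mul,
      mul_inv_cancel, map_one]
  have hjN : j ∈ Nn := Subgroup.le_normalizer hjT
  have hNsurj : ∀ g : G, ∃ m ∈ Nn, ρ m = ρ g := by
    intro g
    obtain ⟨k, hk, m, hm, rfl⟩ := CfsgLib.PLocal.exists_mul_of_sup_eq_top
      (by rwa [sup_comm] at hfrat : K1 ⊔ Nn = ⊤) g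
    rcases hk with hk | hk
    · exact ⟨m, hm, by rw [map_mul, hk, one_mul]⟩
    · exact ⟨j * m, mul_mem hjN hm, by rw [map_mul, map_mul, hk, hj]⟩
  -- `D ∩ N` has no translation part
  have hco1 : co 1 = 0 := by
    have := hcomul 1 1
    rw [one_mul] at this
    simpa using this
  have hinter : ∀ d : D, (d : G) ∈ Nn → co d = 0 := by
    intro d hd
    have h1 : (d : G) * j * (d : G)⁻¹ * j⁻¹ ∈ (T2 : Subgroup K1).map K1.subtype :=
      mul_mem ((Subgroup.mem_normalizer_iff.1 hd j).1 hjT) (inv_mem hjT)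
    have h5 : (d : G) * j * (d : G)⁻¹ * j⁻¹ ∈ D := by
      simpa [mul_assoc] using mul_mem d.2 (hDn.conj_mem _ (inv_mem d.2) j)
    obtain ⟨e1, he1⟩ := hDp ⟨_, h5⟩
    obtain ⟨e2, he2⟩ := (T2.2.map K1.subtype) ⟨_, h1⟩
    have h7 := pow_gcd_eq_one.2 ⟨(congrArg Subtype.val he1 :
      ((d : G) * j * (d : G)⁻¹ * j⁻¹) ^ p ^ e1 = 1), (congrArg Subtype.val he2 :)⟩
    rw [Nat.Coprime.gcd_eq_one (Nat.Coprime.pow _ _ ((Nat.coprime_primes hp Nat.prime_two).2 hp2)),
      pow_one, mul_inv_eq_one, mul_inv_eq_iff_eq_mul] at h7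
    have hfix : (⟨j * d * j⁻¹, hDn.conj_mem d d.2 j⟩ : D) = d := Subtype.ext (by
      show j * d * j⁻¹ = d
      rw [← h7, mul_inv_cancel_right])
    have h2 := hconj j d
    rw [hfix, hj, Matrix.neg_mulVec, Matrix.one_mulVec] at h2
    funext i
    have h3 : (2 : ZMod p) * co d i = 0 := by
      have := congrFun h2 i
      simp at this
      linear_combination this
    refine (mul_eq_zero.1 h3).resolve_left fun h => hp2 ?_
    exact (Nat.prime_dvd_prime_iff_eq hp Nat.prime_two).1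
      ((ZMod.natCast_eq_zero_iff 2 p).1 (by exact_mod_cast h))
  -- the map to `SL₃`
  have hpart : ∀ g : (D ⊔ Nn : Subgroup G), ∃ d : D, ∃ m ∈ Nn, (g : G) = d * m := by
    intro g
    obtain ⟨d, hd, m, hm, e⟩ := (Subgroup.mem_sup_of_normal_left (s := D)).1 g.2
    exact ⟨⟨d, hd⟩, m, hm, e.symm⟩
  choose dd mm hmm hdm using hpart
  have hρm : ∀ g : (D ⊔ Nn : Subgroup G), ρ (mm g) = ρ g := fun g => by
    rw [hdm g, map_mul, hρD _ (dd g).2, one_mul]
  have hwd : ∀ (g : (D ⊔ Nn : Subgroup G)) (d : D) (m : G), m ∈ Nn → (g : G) = d * m →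
      co (dd g) = co d := by
    intro g d m hm hgm
    have h1 : ((d⁻¹ * dd g : D) : G) = m * (mm g)⁻¹ := by
      rw [Subgroup.coe_mul, Subgroup.coe_inv, inv_mul_eq_iff_eq_mul, ← mul_assoc, ← hgm, hdm g,
        mul_inv_cancel_right]
    have h2 := hinter (d⁻¹ * dd g) (h1 ▸ mul_mem hm (inv_mem (hmm g)))
    have h3 := hcomul d (d⁻¹ * dd g)
    rwa [mul_inv_cancel_left, h2, add_zero] at h3
  have hdet : ∀ g, (ρ g).det = 1 := fun g => by
    rw [Matrix.det_fin_two, (hB g).1, mul_zero, sub_zero]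
    exact (hB g).2
  let F : (D ⊔ Nn : Subgroup G) →* Matrix.SpecialLinearGroup (Fin 3) (ZMod p) := MonoidHom.mk'
    (fun g => ⟨aff (ρ g) (co (dd g)), by rw [det_aff, hdet]⟩) fun g h => Subtype.ext (by
      show aff (ρ ((g : G) * h)) (co (dd (g * h))) = aff (ρ g) (co (dd g)) * aff (ρ h) (co (dd h))
      have h1 : ((g * h : (D ⊔ Nn : Subgroup G)) : G) =
          (dd g * ⟨mm g * dd h * (mm g)⁻¹, hDn.conj_mem _ (dd h).2 _⟩ : D) * (mm g * mm h) := by
        rw [Subgroup.coe_mul, hdm g, hdm h]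
        simp [mul_assoc]
      rw [aff_mul, map_mul, hwd _ _ _ (mul_mem (hmm g) (hmm h)) h1, hcomul, hconj, hρm g])
  have hFmem : ∀ g, F g ∈ Cfsg.fOver (ZMod p) := fun g => Subgroup.subset_closure (by
    refine ⟨?_, ?_, ?_, ?_⟩
    · exact (hB g).1
    all_goals rfl)
  have hFsurj : Cfsg.fOver (ZMod p) ≤ F.range := by
    refine (Subgroup.closure_le _).2 fun M hM => ?_
    obtain ⟨h10, h20, h21, h22⟩ := hM
    have hdM := M.2
    rw [Matrix.det_fin_three, h10, h20, h21, h22] at hdM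
    simp at hdM
    obtain ⟨d, hd⟩ := hcos ![(M : Matrix (Fin 3) (Fin 3) (ZMod p)) 0 2,
        (M : Matrix (Fin 3) (Fin 3) (ZMod p)) 1 2]
    set α := (M : Matrix (Fin 3) (Fin 3) (ZMod p)) 0 0
    set β := (M : Matrix (Fin 3) (Fin 3) (ZMod p)) 0 1
    set γ := (M : Matrix (Fin 3) (Fin 3) (ZMod p)) 1 1
    have hα0 : α ≠ 0 := fun h => by rw [h, zero_mul] at hdM; exact zero_ne_one hdM
    obtain ⟨k, hk⟩ : ∃ k : ℕ, (s : ZMod p) ^ k = α := by
      have hsu : (s : ZMod p) ≠ 0 := fun h => by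
        rw [h, zero_mul] at hst; exact zero_ne_one hst
      let su : (ZMod p)ˣ := Units.mk0 _ hsu
      have hcard : orderOf su = Nat.card (ZMod p)ˣ := by
        rw [← orderOf_units, Units.val_mk0, hs, Nat.card_eq_fintype_card, ZMod.card_units]
      have hmem : Units.mk0 α hα0 ∈ Subgroup.zpowers su := by
        rw [Subgroup.eq_top_of_card_eq (Subgroup.zpowers su) (by rw [Nat.card_zpowers, hcard])]
        trivial
      obtain ⟨k, hk⟩ := (mem_powers_iff_mem_zpowers.2 hmem : _ ∈ Submonoid.powers su)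
      exact ⟨k, by simpa [su] using congrArg Units.val hk⟩
    have hapow : ∀ i : ℕ, ρ (a ^ i) = !![1, (i : ZMod p); 0, 1] := by
      intro i
      induction i with
      | zero =>
        rw [pow_zero, map_one, Nat.cast_zero]
        exact Matrix.one_fin_two
      | succ i ih =>
        rw [pow_succ, map_mul, ih, hRa, Matrix.mul_fin_two]
        simp [add_comm]
    have htk : (t : ZMod p) ^ k = γ := by
      have h1 : (s : ZMod p) ^ k * (t : ZMod p) ^ k = 1 := by rw [← mul_pow, hst, one_pow]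
      rw [hk] at h1
      exact mul_left_cancel₀ hα0 (h1.trans hdM.symm)
    obtain ⟨m, hm, hmρ⟩ := hNsurj (a ^ (β * α).val * n ^ k)
    refine ⟨⟨(d : G) * m, Subgroup.mul_mem_sup d.2 hm⟩, Subtype.ext ?_⟩
    show aff (ρ ((d : G) * m)) (co (dd _)) = _
    rw [hwd _ d m hm rfl, hd, map_mul, hρD _ d.2, one_mul, hmρ, map_mul, hapow, hnpow, hk, htk,
      ZMod.natCast_zmod_val, Matrix.mul_fin_two]
    ext i i'
    fin_cases i <;> fin_cases i' <;> simp [aff, h10, h20, h21, h22, α, β, γ]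
    rw [mul_assoc, show α * γ = 1 from hdM, mul_one]
  refine CfsgLib.LocalEven.involves_of_surjective (D ⊔ Nn) (F.codRestrict _ hFmem) ?_
  rintro ⟨M, hM⟩
  obtain ⟨g, hg⟩ := hFsurj hM
  exact ⟨g, Subtype.ext hg⟩

theorem involves_fOver (hp2 : p ≠ 2) {D D' : Subgroup G} {a n u w : G} {s t : ℕ}
    (hDp : IsPGroup p D) (hle : D' ≤ D) (haD : a ∈ Subgroup.normalizer (D : Set G))
    (hnD : n ∈ Subgroup.normalizer (D : Set G)) (haD' : a ∈ Subgroup.normalizer (D' : Set G))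
    (hnD' : n ∈ Subgroup.normalizer (D' : Set G)) (hcomm : ⁅D, D⁆ ≤ D')
    (hgen : D = D' ⊔ Subgroup.zpowers u ⊔ Subgroup.zpowers w) (hs : orderOf (s : ZMod p) = p - 1)
    (hst : (s : ZMod p) * t = 1) (hu : u ∉ D') (hup : u ^ p ∈ D') (hwp : w ^ p ∈ D')
    (hau : a * u * a⁻¹ * u⁻¹ ∈ D') (haw : a * w * a⁻¹ * w⁻¹ * u⁻¹ ∈ D')
    (hnu : n * u * n⁻¹ * (u ^ s)⁻¹ ∈ D') (hnw : n * w * n⁻¹ * (w ^ t)⁻¹ ∈ D') :
    Cfsg.Involves ↥(Cfsg.fOver (ZMod p)) G := by
  classical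
  set Γ := Subgroup.normalizer (D : Set G) ⊓ Subgroup.normalizer (D' : Set G) with hΓ
  have hDN : D ≤ Subgroup.normalizer (D' : Set G) := fun x hx => by
    refine Subgroup.mem_normalizer_fintype fun z hz => ?_
    have h2 := mul_mem (hcomm (Subgroup.commutator_mem_commutator hx (hle hz))) hz
    simpa [commutatorElement_def, mul_assoc] using h2
  have hDΓ : D ≤ Γ := le_inf Subgroup.le_normalizer hDN
  set D'₀ := D'.subgroupOf D
  have hD'n : D'₀.Normal := (Subgroup.normal_subgroupOf_iff_le_normalizer hle).2 hDN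
  set π := QuotientGroup.mk' D'₀
  have hπ1 : ∀ x : D, π x = 1 ↔ (x : G) ∈ D' := fun x => QuotientGroup.eq_one_iff x
  have hπeq : ∀ x z : D, (x : G) * (z : G)⁻¹ ∈ D' → π x = π z := fun x z h => by
    rw [← mul_inv_eq_one, ← map_inv, ← map_mul, hπ1]
    exact h
  have hcq : ∀ x z : D ⧸ D'₀, x * z = z * x := by
    intro x z
    obtain ⟨x, rfl⟩ := QuotientGroup.mk'_surjective _ x
    obtain ⟨z, rfl⟩ := QuotientGroup.mk'_surjective _ z
    refine commutatorElement_eq_one_iff_mul_comm.1 ?_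
    rw [← map_commutatorElement, hπ1]
    exact hcomm (Subgroup.commutator_mem_commutator x.2 z.2)
  letI : CommGroup (D ⧸ D'₀) := { (inferInstance : Group (D ⧸ D'₀)) with mul_comm := hcq }
  have huD : u ∈ D := hgen ▸ Subgroup.mem_sup_left (Subgroup.mem_sup_right (Subgroup.mem_zpowers u))
  have hwD : w ∈ D := hgen ▸ Subgroup.mem_sup_right (Subgroup.mem_zpowers w)
  let A := Additive (D ⧸ D'₀)
  let cls : D → A := fun x => Additive.ofMul (π x)
  have hcls : ∀ x z, cls (x * z) = cls x + cls z := fun x z => congrArg Additive.ofMul (map_mul π x z)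
  have hclsp : ∀ (x : D) (k : ℕ), cls (x ^ k) = k • cls x := fun x k =>
    congrArg Additive.ofMul (map_pow π x k)
  set U : A := cls ⟨u, huD⟩
  set W : A := cls ⟨w, hwD⟩
  have hord : ∀ x : D, (x : G) ^ p ∈ D' → zmultiplesHom A (cls x) (p : ℤ) = 0 := fun x hx => by
    rw [zmultiplesHom_apply, natCast_zsmul, ← hclsp]
    exact congrArg Additive.ofMul ((hπ1 _).2 (show ((x ^ p : D) : G) ∈ D' by
      rw [SubgroupClass.coe_pow]; exact hx))
  let gU : ZMod p →+ A := ZMod.lift p ⟨zmultiplesHom A U, hord _ hup⟩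
  let gW : ZMod p →+ A := ZMod.lift p ⟨zmultiplesHom A W, hord _ hwp⟩
  have hgU : ∀ k : ℕ, gU (k : ZMod p) = k • U := fun k => by
    rw [← Int.cast_natCast, ZMod.lift_coe, zmultiplesHom_apply, natCast_zsmul]
  have hgW : ∀ k : ℕ, gW (k : ZMod p) = k • W := fun k => by
    rw [← Int.cast_natCast, ZMod.lift_coe, zmultiplesHom_apply, natCast_zsmul]
  let Φ : (Fin 2 → ZMod p) →+ A := gU.comp (Pi.evalAddMonoidHom _ 0) + gW.comp (Pi.evalAddMonoidHom _ 1)
  have hΦ : ∀ c, Φ c = gU (c 0) + gW (c 1) := fun c => rfl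
  have hev : ∀ c : Fin 2 → ZMod p, Φ c = (c 0).val • U + (c 1).val • W := fun c => by
    rw [hΦ, ← hgU, ← hgW, ZMod.natCast_zmod_val, ZMod.natCast_zmod_val]
  -- the action
  have hmem : ∀ (g : Γ) (x : D), (g : G) * x * (g : G)⁻¹ ∈ D := fun g x =>
    (Subgroup.mem_normalizer_iff.1 g.2.1 _).1 x.2
  let cj : Γ → (D →* D) := fun g => MonoidHom.mk' (fun x => ⟨_, hmem g x⟩) fun x z =>
    Subtype.ext (by simp [mul_assoc])
  let τ : Γ → (A →+ A) := fun g => MonoidHom.toAdditive (QuotientGroup.map _ _ (cj g) fun x hx =>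
    (Subgroup.mem_normalizer_iff.1 g.2.2 _).1 hx)
  have hτ : ∀ g x, τ g (cls x) = cls (cj g x) := fun g x => rfl
  have hsur : ∀ z : A, ∃ x : D, cls x = z := fun z => by
    obtain ⟨x, hx⟩ := QuotientGroup.mk'_surjective D'₀ (Additive.toMul z)
    exact ⟨x, congrArg Additive.ofMul hx⟩
  have hτmul : ∀ g h z, τ (g * h) z = τ g (τ h z) := by
    intro g h z
    obtain ⟨x, rfl⟩ := hsur z
    rw [hτ, hτ, hτ]
    exact congrArg cls (Subtype.ext (by simp [cj, mul_assoc]))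
  have hτ1 : ∀ z, τ 1 z = z := by
    intro z
    obtain ⟨x, rfl⟩ := hsur z
    rw [hτ]
    exact congrArg cls (Subtype.ext (by simp [cj]))
  have haΓ : a ∈ Γ := ⟨haD, haD'⟩
  have hnΓ : n ∈ Γ := ⟨hnD, hnD'⟩
  have haU : τ ⟨a, haΓ⟩ U = U := congrArg Additive.ofMul (hπeq _ ⟨u, huD⟩ hau)
  have haW : τ ⟨a, haΓ⟩ W = U + W := (congrArg Additive.ofMul
    (hπeq (cj ⟨a, haΓ⟩ ⟨w, hwD⟩) (⟨u, huD⟩ * ⟨w, hwD⟩) (by
      show a * w * a⁻¹ * (u * w)⁻¹ ∈ D'
      simpa [mul_assoc] using haw))).trans (hcls _ _)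
  have hnU : τ ⟨n, hnΓ⟩ U = s • U := (congrArg Additive.ofMul
    (hπeq (cj ⟨n, hnΓ⟩ ⟨u, huD⟩) (⟨u, huD⟩ ^ s) (by rw [SubgroupClass.coe_pow]; exact hnu))).trans
    (hclsp _ _)
  have hnW : τ ⟨n, hnΓ⟩ W = t • W := (congrArg Additive.ofMul
    (hπeq (cj ⟨n, hnΓ⟩ ⟨w, hwD⟩) (⟨w, hwD⟩ ^ t) (by rw [SubgroupClass.coe_pow]; exact hnw))).trans
    (hclsp _ _)
  have hU0 : U ≠ 0 := fun h => hu ((hπ1 ⟨u, huD⟩).1 (congrArg Additive.toMul h))
  have hτΦa : ∀ c, τ ⟨a, haΓ⟩ (Φ c) = Φ c + gU (c 1) := fun c => by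
    rw [hev, map_add, map_nsmul, map_nsmul, haU, haW, nsmul_add, ← hgU ((c 1).val),
      ZMod.natCast_zmod_val]
    abel
  have hΦi : Function.Injective Φ := by
    have hgUi : ∀ k : ZMod p, gU k = 0 → k = 0 := by
      intro k hk
      by_contra hne
      obtain ⟨m, hm⟩ : ∃ m : ℕ, (m : ZMod p) * k = 1 :=
        ⟨(k⁻¹).val, by rw [ZMod.natCast_zmod_val, inv_mul_cancel₀ hne]⟩
      have h1 : gU ((m : ZMod p) * k) = 0 := by
        rw [← nsmul_eq_mul, map_nsmul, hk, nsmul_zero]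
      rw [hm, ← Nat.cast_one, hgU, one_nsmul] at h1
      exact hU0 h1
    rw [injective_iff_map_eq_zero]
    intro c hc
    have h1 := hτΦa c
    rw [hc, map_zero, zero_add] at h1
    have hc1 := hgUi _ h1.symm
    have hc0 : c 0 = 0 := hgUi _ (by rw [hΦ, hc1, map_zero, add_zero] at hc; exact hc)
    ext i
    fin_cases i <;> simp [hc0, hc1]
  have hΦs : Function.Surjective Φ := by
    let K : Subgroup D :=
      { carrier := {x | cls x ∈ Φ.range}
        one_mem' := by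
          show cls 1 ∈ Φ.range
          rw [show cls 1 = 0 from congrArg Additive.ofMul (map_one π)]; exact zero_mem _
        mul_mem' := fun {x z} hx hz => by
          show cls (x * z) ∈ Φ.range
          rw [hcls]; exact add_mem hx hz
        inv_mem' := fun {x} hx => by
          show cls x⁻¹ ∈ Φ.range
          rw [show cls x⁻¹ = -cls x from congrArg Additive.ofMul (map_inv π x)]
          exact neg_mem hx }
    have hKu : (⟨u, huD⟩ : D) ∈ K := ⟨![((1 : ℕ) : ZMod p), 0], by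
      rw [hΦ]; show gU ((1 : ℕ) : ZMod p) + gW 0 = _; rw [hgU, map_zero, one_nsmul, add_zero]⟩
    have hKw : (⟨w, hwD⟩ : D) ∈ K := ⟨![0, ((1 : ℕ) : ZMod p)], by
      rw [hΦ]; show gU 0 + gW ((1 : ℕ) : ZMod p) = _; rw [hgW, map_zero, one_nsmul, zero_add]⟩
    intro z
    obtain ⟨x, rfl⟩ := hsur z
    have hle' : D ≤ K.map D.subtype := by
      have hd' : D' ≤ K.map D.subtype := fun d hd => Subgroup.mem_map.2 ⟨⟨d, hle hd⟩, by
        show cls _ ∈ Φ.range
        rw [show cls ⟨d, hle hd⟩ = 0 from congrArg Additive.ofMul ((hπ1 ⟨d, hle hd⟩).2 hd)]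
        exact zero_mem _, rfl⟩
      have h1 : Subgroup.zpowers u ≤ K.map D.subtype :=
        Subgroup.zpowers_le.2 (Subgroup.mem_map.2 ⟨_, hKu, rfl⟩)
      have h2 : Subgroup.zpowers w ≤ K.map D.subtype :=
        Subgroup.zpowers_le.2 (Subgroup.mem_map.2 ⟨_, hKw, rfl⟩)
      exact hgen.le.trans (sup_le (sup_le hd' h1) h2)
    obtain ⟨x', hx', he⟩ := Subgroup.mem_map.1 (hle' x.2)
    exact (Subtype.ext he : x' = x) ▸ hx'
  let e : (Fin 2 → ZMod p) ≃+ A := AddEquiv.ofBijective Φ ⟨hΦi, hΦs⟩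
  let R : Γ → Matrix (Fin 2) (Fin 2) (ZMod p) := fun g => LinearMap.toMatrix'
    (((e.symm.toAddMonoidHom.comp ((τ g).comp e.toAddMonoidHom))).toZModLinearMap p)
  have hR : ∀ g c, Φ (R g *ᵥ c) = τ g (Φ c) := by
    intro g c
    show e (LinearMap.toMatrix' _ *ᵥ c) = τ g (e c)
    rw [LinearMap.toMatrix'_mulVec]
    exact e.apply_symm_apply _
  have huniq : ∀ M M' : Matrix (Fin 2) (Fin 2) (ZMod p), (∀ c, Φ (M *ᵥ c) = Φ (M' *ᵥ c)) → M = M' :=
    fun M M' h => Matrix.ext_of_mulVec_single fun i => hΦi (h _)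
  have hR1 : R 1 = 1 := huniq _ _ fun c => by rw [hR, hτ1, Matrix.one_mulVec]
  let Rh : Γ →* Matrix (Fin 2) (Fin 2) (ZMod p) :=
    { toFun := R
      map_one' := hR1
      map_mul' := fun g h => huniq _ _ fun c => by
        rw [hR, hτmul, ← Matrix.mulVec_mulVec, hR, hR] }
  have hRD : ∀ d : G, ∀ hd : d ∈ D, R ⟨d, hDΓ hd⟩ = 1 := fun d hd => huniq _ _ fun c => by
    rw [hR, Matrix.one_mulVec]
    obtain ⟨x, hx⟩ := hsur (Φ c)
    rw [← hx, hτ]
    refine congrArg Additive.ofMul (hπeq (cj ⟨d, hDΓ hd⟩ x) x ?_)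
    show d * x * d⁻¹ * (x : G)⁻¹ ∈ D'
    exact hcomm (Subgroup.commutator_mem_commutator hd x.2)
  have hRa : R ⟨a, haΓ⟩ = !![1, 1; 0, 1] := huniq _ _ fun c => by
    rw [hR, hτΦa, hΦ, hΦ]
    simp [Matrix.mulVec, dotProduct, Fin.sum_univ_two]
    abel
  have hRn : R ⟨n, hnΓ⟩ = !![(s : ZMod p), 0; 0, (t : ZMod p)] := huniq _ _ fun c => by
    have e1 : ∀ (k : ℕ) (x : ZMod p), x.val • k • U = gU ((k : ZMod p) * x) := fun k x => by
      rw [← nsmul_eq_mul, map_nsmul, smul_comm, ← hgU x.val, ZMod.natCast_zmod_val]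
    have e2 : ∀ (k : ℕ) (x : ZMod p), x.val • k • W = gW ((k : ZMod p) * x) := fun k x => by
      rw [← nsmul_eq_mul, map_nsmul, smul_comm, ← hgW x.val, ZMod.natCast_zmod_val]
    rw [hR, hev c, map_add, map_nsmul, map_nsmul, hnU, hnW, e1, e2, hΦ]
    simp [Matrix.mulVec, dotProduct, Fin.sum_univ_two]
  -- the upper triangular part
  let B : Subgroup Γ :=
    { carrier := {g | Rh g 1 0 = 0 ∧ Rh g 0 0 * Rh g 1 1 = 1}
      one_mem' := by simp
      mul_mem' := fun {g h} ⟨g1, g2⟩ ⟨h1, h2⟩ => by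
        rw [Set.mem_ofPred_eq, map_mul]
        simp only [Matrix.mul_apply, Fin.sum_univ_two, g1, h1]
        refine ⟨by ring, ?_⟩
        linear_combination (Rh h 0 0 * Rh h 1 1) * g2 + h2
      inv_mem' := fun {g} ⟨g1, g2⟩ => by
        suffices key : ∀ N, Rh g * N = 1 → N 1 0 = 0 ∧ N 0 0 * N 1 1 = 1 from
          key _ (by rw [← map_mul, mul_inv_cancel, map_one])
        intro N h
        have e10 := congrFun (congrFun h 1) 0
        have e00 := congrFun (congrFun h 0) 0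
        have e11 := congrFun (congrFun h 1) 1
        simp [Matrix.mul_apply, Fin.sum_univ_two, g1] at e10 e00 e11
        have hN : N 1 0 = 0 := e10.resolve_left fun h0 => by
          rw [h0, mul_zero] at g2; exact zero_ne_one g2
        rw [hN, mul_zero, add_zero] at e00
        exact ⟨hN, by linear_combination (-(N 0 0 * N 1 1)) * g2 + (Rh g 1 1 * N 1 1) * e00 + e11⟩ }
  have haB : (⟨a, haΓ⟩ : Γ) ∈ B := by
    show R ⟨a, haΓ⟩ 1 0 = 0 ∧ _ * R ⟨a, haΓ⟩ 1 1 = 1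
    rw [show Rh ⟨a, haΓ⟩ = R ⟨a, haΓ⟩ from rfl, hRa]
    simp
  have hnB : (⟨n, hnΓ⟩ : Γ) ∈ B := by
    show R ⟨n, hnΓ⟩ 1 0 = 0 ∧ _ * R ⟨n, hnΓ⟩ 1 1 = 1
    rw [show Rh ⟨n, hnΓ⟩ = R ⟨n, hnΓ⟩ from rfl, hRn]
    simp [hst]
  let D₁ : Subgroup B := (D.subgroupOf Γ).subgroupOf B
  have hD₁n : D₁.Normal := ⟨fun d hd g => hmem (g : Γ) ⟨((d : Γ) : G), hd⟩⟩
  let el : D₁ → D := fun d => ⟨(((d : B) : Γ) : G), d.2⟩
  refine involves_of_injective_subtype B (involves_of_coords (D := D₁) hp2 ?_ (Rh.comp B.subtype)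
    (fun g => g.2) (fun d => e.symm (cls (el d))) (fun d d' => ?_) (fun v => ?_) (fun d hd => ?_)
    (fun g d => ?_) (a := ⟨_, haB⟩) (n := ⟨_, hnB⟩) hs hst hRa hRn)
  · exact (hDp.comap_of_injective Γ.subtype Γ.subtype_injective).comap_of_injective B.subtype
      B.subtype_injective
  · show e.symm (cls (el d * el d')) = _
    rw [hcls, map_add]
  · obtain ⟨x, hx⟩ := hsur (e v)
    have hxB : (⟨(x : G), hDΓ x.2⟩ : Γ) ∈ B := by
      show Rh _ 1 0 = 0 ∧ Rh _ 0 0 * Rh _ 1 1 = 1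
      rw [show Rh ⟨(x : G), hDΓ x.2⟩ = 1 from hRD x x.2]
      simp
    exact ⟨⟨⟨_, hxB⟩, x.2⟩, by
      show e.symm (cls x) = v
      rw [hx, AddEquiv.symm_apply_apply]⟩
  · exact hRD _ hd
  · apply e.injective
    rw [AddEquiv.apply_symm_apply]
    show cls (cj (g : Γ) (el d)) = Φ (R (g : Γ) *ᵥ _)
    rw [hR, show Φ (e.symm (cls (el d))) = cls (el d) from e.apply_symm_apply _, hτ]

end CfsgLib.ZJFusion
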