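import Cfsg.Agent.Lib.ZJFusion.Group
import Cfsg.Agent.Lib.ZJFusion.Recognize
import Cfsg.Agent.Lib.ZJFusion.Engine
import Cfsg.Agent.Lib.FusionControl.Step
import Cfsg.Agent.Lib.Fusion.ZJCenter
import Cfsg.Agent.Lib.Fusion.Group

/-!
# Failure of control of strong fusion by `Z(J(S))`

The control theorem is applied to `N_G(Y)`, `Y = Z(J(S))`; where it fails, the group theorem applied
in a model gives a transvection and a torus element in `N_G(Y)` on a section of `S`.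
-/

set_option autoImplicit false
set_option linter.style.haveILetI false
set_option maxHeartbeats 800000

namespace CfsgLib.ZJFusion

open Cfsg Cfsg.FusionSystem CfsgLib.Fusion CfsgLib.FusionControl CfsgLib.PLoc

universe u
variable {G : Type u} [Group G]

/-- `{J, Y}` for `(⊥, S)`; otherwise all subgroups above `Z` that `S` keeps. -/
def choice (S Y : Subgroup G) (Z R : Subgroup G) : Set (Subgroup G) :=
  {U | (Z = ⊥ ∧ R = S ∧ (U = joinMaxAb 0 S ∨ U = Y)) ∨ (¬ (Z = ⊥ ∧ R = S) ∧ Z < U ∧ U ≤ R ∧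
    ∀ g ∈ S, g ∈ Subgroup.normalizer (R : Set G) → g ∈ Subgroup.normalizer (Z : Set G) →
      g ∈ Subgroup.normalizer (U : Set G))}

/-- `Y ∩ T ≤ Z` only if `Y ≤ T`. -/
def yInv (Y : Subgroup G) (T Z : Subgroup G) : Prop := Y ⊓ T ≤ Z → Y ≤ T

variable [Finite G] {p : ℕ} [Fact p.Prime]

theorem isHereditary_yInv {S Y : Subgroup G} (hSY : S ≤ Subgroup.normalizer (Y : Set G))
    (hS : IsPGroup p S) : IsHereditary S (yInv Y) := by
  intro T Z X hTS hZX hXT hI hle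
  set N := normalizerIn T X
  have hN : N ≤ T := normalizerIn_le T X
  have hYn : ∀ t ∈ T, ∀ y ∈ Y ⊓ T, t * y * t⁻¹ ∈ Y ⊓ T := fun t ht y hy =>
    ⟨(Subgroup.mem_normalizer_iff.1 (hSY (hTS ht)) y).1 hy.1, T.mul_mem (T.mul_mem ht hy.2) (T.inv_mem ht)⟩
  suffices hsub : Y ⊓ T ≤ N by
    have h1 : Y ≤ T := hI ((le_inf inf_le_left hsub).trans hle)
    exact (le_inf le_rfl h1).trans hsub
  by_contra hnot
  have : Group.IsNilpotent T := (hS.to_le hTS).isNilpotent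
  set A := (Y ⊓ T) ⊔ N
  have hAT : A ≤ T := sup_le inf_le_right hN
  have : Group.IsNilpotent A := ((hS.to_le hTS).to_le hAT).isNilpotent
  have hlt : N.subgroupOf A < ⊤ := by
    rw [lt_top_iff_ne_top, Ne, Subgroup.subgroupOf_eq_top]
    exact fun h => hnot (le_sup_left.trans h)
  obtain ⟨g, hgn, hgN⟩ := Set.exists_of_ssubset
    (Group.normalizerCondition_of_isNilpotent (G := A) _ hlt)
  have hNn : N ≤ Subgroup.normalizer ((Y ⊓ T : Subgroup G) : Set G) := fun t ht =>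
    Subgroup.mem_normalizer_fintype (hYn t (hN ht))
  obtain ⟨y, hy, m, hm, he⟩ : ∃ y ∈ Y ⊓ T, ∃ m ∈ N, y * m = (g : G) := by
    have hg := g.2
    rw [← SetLike.mem_coe, Subgroup.coe_mul_of_right_le_normalizer_left (Y ⊓ T) N hNn] at hg
    obtain ⟨y, hy, m, hm, he⟩ := hg
    exact ⟨y, hy, m, hm, he⟩
  have hgN' : (g : G) ∉ N := hgN
  -- `y` normalizes `N`, hence `X`
  have hyN : ∀ x ∈ N, y * x * y⁻¹ ∈ N := by
    intro x hx
    have h1 : m⁻¹ * x * m ∈ N := mul_mem (mul_mem (InvMemClass.inv_mem hm) hx) hm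
    have h2 : (g : G) * (m⁻¹ * x * m) * (g : G)⁻¹ ∈ N :=
      (Subgroup.mem_normalizer_iff.1 hgn ⟨_, le_sup_right (a := Y ⊓ T) h1⟩).1 h1
    rw [← he] at h2
    simpa [mul_assoc] using h2
  refine hgN' (he ▸ mul_mem (⟨hy.2, Subgroup.mem_normalizer_fintype fun x hx => ?_⟩ : y ∈ N) hm)
  have hxN : x ∈ N := le_normalizerIn hXT hx
  have h1 : x * (y * x⁻¹ * y⁻¹) ∈ (Y ⊓ T) ⊓ N := ⟨by
    rw [show x * (y * x⁻¹ * y⁻¹) = (x * y * x⁻¹) * y⁻¹ by simp [mul_assoc]]
    exact (Y ⊓ T).mul_mem (hYn x (hXT hx) y hy) ((Y ⊓ T).inv_mem hy), mul_mem hxN (hyN _ (InvMemClass.inv_mem hxN))⟩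
  have h2 : x * (y * x⁻¹ * y⁻¹) ∈ X := hZX (hle ⟨h1.1.1, h1.2⟩)
  have h3 : y * x⁻¹ * y⁻¹ ∈ X := by simpa using mul_mem (InvMemClass.inv_mem hx) h2
  simpa [mul_assoc] using InvMemClass.inv_mem h3

/-- A realized map normalizing `U`. -/
theorem exists_normalizerHom {Ω : Type*} [Group Ω] {T : Subgroup Ω} [Finite T]
    {E : Cfsg.FusionSystem T} {L : Type*} [Group L] {ι : T →* L} (hι : E.IsRealizedBy ι)
    {U P : Subgroup Ω} (hU : U ≤ T) (hTU : T ≤ Subgroup.normalizer (U : Set Ω)) (hP : P ≤ T) (l : L)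
    (hlP : ∀ x : P, l * ι ⟨x, hP x.2⟩ * l⁻¹ ∈ ι.range)
    (hlU : ∀ u : U, ∃ v : T, (v : Ω) ∈ U ∧ l * ι ⟨u, hU u.2⟩ * l⁻¹ = ι v) :
    ∃ φ ∈ E.normalizerHom U P, ∀ (x : P) (hx : φ x ∈ T), ι ⟨φ x, hx⟩ = l * ι ⟨x, hP x.2⟩ * l⁻¹ := by
  have hD : P ⊔ U ≤ T := sup_le hP hU
  obtain ⟨ψ, hψ, hψv⟩ := realized_subgroup_conj hι hD l
    (realized_conj_mem_range_of_sup hι hP hU hlP fun u => by
      obtain ⟨v, -, hv⟩ := hlU u
      exact ⟨v, hv.symm⟩)
  refine ⟨ψ.comp (Subgroup.inclusion le_sup_left), ⟨restrict_mem hψ _, le_inf hP (hP.trans hTU),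
    fun x => ⟨map_mem hψ _, hTU (map_mem hψ _)⟩, ψ, hψ, fun x => rfl, ?_⟩,
    fun x hx => hψv (Subgroup.inclusion le_sup_left x) hx⟩
  have : Finite U := finite_of_le hU
  rw [← range_comp_inclusion le_sup_right]
  refine range_eq_of_le (hom_inj (restrict_mem hψ le_sup_right)) fun u => ?_
  obtain ⟨v, hvU, hv⟩ := hlU u
  have h1 : ι ⟨ψ (Subgroup.inclusion le_sup_right u), map_mem hψ _⟩ = ι v :=
    (hψv _ (map_mem hψ _)).trans hv
  show ψ (Subgroup.inclusion le_sup_right u) ∈ U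
  rw [show ψ (Subgroup.inclusion le_sup_right u) = (v : Ω) from realized_inj hι h1]
  exact hvU

/-- The conclusion: a datum in `G`. -/
def HasDatum (p : ℕ) (S Y : Subgroup G) : Prop :=
  ∃ (Q D D' : Subgroup G) (a n u w y : G) (s t : ℕ), IsDatum p S Y Q D D' a n u w y s t

omit [Fact p.Prime] in
/-- From a datum in a subgroup of a quotient of a model to one in `G`. -/
theorem hasDatum_of_hom {S Y T : Subgroup G} (hTS : T ≤ S) {X : Type*} [Group X] [Finite X]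
    (π : T →* X) {P Yb Q D D' : Subgroup X} {a n u w y : X} {s t : ℕ}
    (h : IsDatum p P Yb Q D D' a n u w y s t) (hP : P ≤ π.range)
    (hYb : ∀ z ∈ Yb, ∃ r : T, (r : G) ∈ Y ∧ π r = z)
    (htwin : ∀ g, g ∈ Subgroup.normalizer (Yb : Set X) → g ∈ Subgroup.normalizer (Q : Set X) →
      ∃ k ∈ Subgroup.normalizer (Y : Set G), ∀ q : T, π q ∈ Q →
        ∃ hm : k * (q : G) * k⁻¹ ∈ T, π ⟨_, hm⟩ = g * π q * g⁻¹) :
    HasDatum p S Y := by
  classical
  let pre (K : Subgroup X) : Subgroup G := (K.comap π).map T.subtype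
  have hpre : ∀ (K : Subgroup X) (r : T), (r : G) ∈ pre K ↔ π r ∈ K := fun K r =>
    ⟨fun ⟨r', hr', e⟩ => Subtype.ext e ▸ hr', fun hr => ⟨r, hr, rfl⟩⟩
  have hpreT : ∀ K, pre K ≤ T := fun K => Subgroup.map_subtype_le _
  have hmono : ∀ K K' : Subgroup X, K ≤ K' → pre K ≤ pre K' := fun K K' hle =>
    Subgroup.map_mono (Subgroup.comap_mono hle)
  have hDP : D ≤ π.range := h.D_le.trans (h.Q_le.trans hP)
  obtain ⟨u₁, hu⟩ := hDP (show u ∈ D from h.gen ▸ Subgroup.mem_sup_left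
    (Subgroup.mem_sup_right (Subgroup.mem_zpowers u)))
  obtain ⟨w₁, hw⟩ := hDP (show w ∈ D from h.gen ▸ Subgroup.mem_sup_right (Subgroup.mem_zpowers w))
  obtain ⟨y₁, hyY, hy⟩ := hYb y h.y_mem
  obtain ⟨ka, hkaY, hka⟩ := htwin a h.a_Y h.a_Q
  obtain ⟨kn, hknY, hkn⟩ := htwin n h.n_Y h.n_Q
  have hnorm : ∀ (g : X) (k : G), (∀ q : T, π q ∈ Q →
      ∃ hm : k * (q : G) * k⁻¹ ∈ T, π ⟨_, hm⟩ = g * π q * g⁻¹) →
      ∀ K : Subgroup X, K ≤ Q → g ∈ Subgroup.normalizer (K : Set X) →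
        k ∈ Subgroup.normalizer (pre K : Set G) := by
    intro g k hk K hKQ hg
    refine Subgroup.mem_normalizer_fintype fun x hx => ?_
    obtain ⟨q, hq, rfl⟩ := hx
    obtain ⟨hm, he⟩ := hk q (hKQ hq)
    exact (hpre K ⟨_, hm⟩).2 (he ▸ (Subgroup.mem_normalizer_iff.1 hg _).1 hq)
  have hDQ := h.D_le
  have hD'Q : D' ≤ Q := h.D'_le.trans hDQ
  have huQ : π u₁ ∈ Q := hu ▸ hDQ (h.gen ▸ Subgroup.mem_sup_left
    (Subgroup.mem_sup_right (Subgroup.mem_zpowers u)))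
  have hwQ : π w₁ ∈ Q := hw ▸ hDQ (h.gen ▸ Subgroup.mem_sup_right (Subgroup.mem_zpowers w))
  obtain ⟨hau, hau'⟩ := hka u₁ huQ
  obtain ⟨haw, haw'⟩ := hka w₁ hwQ
  obtain ⟨hnu, hnu'⟩ := hkn u₁ huQ
  obtain ⟨hnw, hnw'⟩ := hkn w₁ hwQ
  obtain ⟨hny, hny'⟩ := hkn y₁ (hy ▸ h.y_Q)
  refine ⟨pre Q, pre D, pre D', ka, kn, (u₁ : G), (w₁ : G), (y₁ : G), s, t,
    ⟨(hpreT Q).trans hTS, hmono _ _ h.D'_le, hmono _ _ hDQ, hnorm a ka hka Q le_rfl h.a_Q,
      hnorm n kn hkn Q le_rfl h.n_Q, hkaY, hknY, hnorm a ka hka D hDQ h.a_D,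
      hnorm n kn hkn D hDQ h.n_D, hnorm a ka hka D' hD'Q h.a_D', hnorm n kn hkn D' hD'Q h.n_D',
      ?_, ?_, h.s_ord, h.st, fun e => h.u_not (hu ▸ (hpre D' u₁).1 e), ?_, ?_, ?_, ?_, ?_, ?_, hyY,
      (hpre Q y₁).2 (hy ▸ h.y_Q), fun e => h.y_not (hy ▸ (hpre D' y₁).1 e), ?_⟩⟩
  · rw [show ⁅pre D, pre D⁆ = (⁅D.comap π, D.comap π⁆).map T.subtype from
      (Subgroup.map_commutator _ _ _).symm]
    refine Subgroup.map_mono (Subgroup.map_le_iff_le_comap.1 ?_)
    rw [Subgroup.map_commutator]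
    exact (Subgroup.commutator_mono (Subgroup.map_comap_le _ _) (Subgroup.map_comap_le _ _)).trans h.comm
  · refine le_antisymm ?_ (sup_le (sup_le (hmono _ _ h.D'_le) (Subgroup.zpowers_le.2 ((hpre D u₁).2 ?_)))
      (Subgroup.zpowers_le.2 ((hpre D w₁).2 ?_)))
    · set R := pre D' ⊔ Subgroup.zpowers (u₁ : G) ⊔ Subgroup.zpowers (w₁ : G) with hR
      have hR' : D ≤ (R.subgroupOf T).map π := by
        refine h.gen.le.trans (sup_le (sup_le (fun z hz => ?_) ?_) ?_)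
        · obtain ⟨r, rfl⟩ := hDP (h.D'_le hz)
          exact ⟨r, Subgroup.mem_sup_left (Subgroup.mem_sup_left ((hpre D' r).2 hz)), rfl⟩
        · exact Subgroup.zpowers_le.2
            ⟨u₁, Subgroup.mem_sup_left (Subgroup.mem_sup_right (Subgroup.mem_zpowers _)), hu⟩
        · exact Subgroup.zpowers_le.2 ⟨w₁, Subgroup.mem_sup_right (Subgroup.mem_zpowers _), hw⟩
      rintro _ ⟨x, hx, rfl⟩
      obtain ⟨r, hr, hrx⟩ := hR' hx
      have h1 : ((r⁻¹ * x : T) : G) ∈ R := Subgroup.mem_sup_left (Subgroup.mem_sup_left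
        ((hpre D' _).2 (by rw [map_mul, map_inv, hrx, inv_mul_cancel]; exact one_mem _)))
      have h2 := mul_mem (show (r : G) ∈ R from hr) h1
      simpa using h2
    · exact hu ▸ h.gen ▸ Subgroup.mem_sup_left (Subgroup.mem_sup_right (Subgroup.mem_zpowers u))
    · exact hw ▸ h.gen ▸ Subgroup.mem_sup_right (Subgroup.mem_zpowers w)
  · exact (hpre D' (u₁ ^ p)).2 (by rw [map_pow, hu]; exact h.u_pow)
  · exact (hpre D' (w₁ ^ p)).2 (by rw [map_pow, hw]; exact h.w_pow)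
  · exact (hpre D' (⟨_, hau⟩ * u₁⁻¹)).2 (by rw [map_mul, map_inv, hau', hu]; exact h.a_u)
  · exact (hpre D' (⟨_, haw⟩ * w₁⁻¹ * u₁⁻¹)).2
      (by rw [map_mul, map_mul, map_inv, map_inv, haw', hu, hw]; exact h.a_w)
  · exact (hpre D' (⟨_, hnu⟩ * (u₁ ^ s)⁻¹)).2
      (by rw [map_mul, map_inv, map_pow, hnu', hu]; exact h.n_u)
  · exact (hpre D' (⟨_, hnw⟩ * (w₁ ^ t)⁻¹)).2
      (by rw [map_mul, map_inv, map_pow, hnw', hw]; exact h.n_w)
  · exact (hpre D' (⟨_, hny⟩ * (y₁ ^ s)⁻¹)).2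
      (by rw [map_mul, map_inv, map_pow, hny', hy]; exact h.n_y)

/-! ### The systems -/

section Systems

variable {S Y : Subgroup G}

/-- The system of `N_G(Y)` on `S`. -/
def ySystem (hYS : Y ≤ S) (hSY : S ≤ Subgroup.normalizer (Y : Set G)) : Cfsg.FusionSystem S :=
  copyOver (normalizerSystem (groupFusionSystem S) Y hYS) (normalizerIn_eq_of_le hSY)

variable (hYS : Y ≤ S) (hSY : S ≤ Subgroup.normalizer (Y : Set G))

theorem ySystem_conj {P : Subgroup G} {φ : P →* G} (h : φ ∈ (ySystem hYS hSY).Hom P) :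
    ∃ k ∈ Subgroup.normalizer (Y : Set G), ∀ x : P, φ x = k * (x : G) * k⁻¹ := by
  obtain ⟨-, -, -, ψ, hψ, hag, hmap⟩ := (h : φ ∈ (groupFusionSystem S).normalizerHom Y P)
  obtain ⟨-, -, g, hg⟩ := hψ
  refine ⟨g, Subgroup.mem_normalizer_fintype fun y hy => ?_, fun x => (hag x).symm.trans (hg _)⟩
  have h1 := mem_of_map_subgroupOf_sup_eq hmap ⟨y, hy⟩
  rwa [hg] at h1

theorem mem_ySystem {P : Subgroup G} {φ : P →* G} (hφ : φ ∈ (groupFusionSystem S).Hom P) {k : G}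
    (hk : k ∈ Subgroup.normalizer (Y : Set G)) (hv : ∀ x : P, φ x = k * (x : G) * k⁻¹) :
    φ ∈ (ySystem hYS hSY).Hom P := by
  have hP := dom_le hφ
  have hkY : ∀ y : Y, k * (y : G) * k⁻¹ ∈ Y := fun y => (Subgroup.mem_normalizer_iff.1 hk _).1 y.2
  have hS : ∀ z : ↥(P ⊔ Y), k * (z : G) * k⁻¹ ∈ S := by
    have hle : P ⊔ Y ≤ S.comap (MulAut.conj k).toMonoidHom :=
      sup_le (fun x hx => by
        show k * x * k⁻¹ ∈ S
        have h1 := map_mem hφ ⟨x, hx⟩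
        rwa [hv ⟨x, hx⟩] at h1) fun y hy => hYS (hkY ⟨y, hy⟩)
    exact fun z => hle z.2
  refine ⟨hφ, le_inf hP (hP.trans hSY), fun x => ⟨map_mem hφ x, hSY (map_mem hφ x)⟩,
    conjHom (P ⊔ Y) k, ⟨sup_le hP hYS, hS, k, fun _ => rfl⟩, fun x => (hv x).symm, ?_⟩
  rw [← range_comp_inclusion le_sup_right]
  refine range_eq_of_le (((MulAut.conj k).injective.comp Subtype.val_injective).comp
    (Subgroup.inclusion_injective _)) fun y => hkY y

theorem ySystem_le : (ySystem hYS hSY).IsSubsystemOf (groupFusionSystem S) := fun _ _ h => h.1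

end Systems

/-! ### The constrained case -/

section Cons

variable {S : Sylow p G} {Y : Subgroup G}

theorem ySystem_isSaturated (hYS : Y ≤ (S : Subgroup G))
    (hSY : (S : Subgroup G) ≤ Subgroup.normalizer (Y : Set G)) :
    (ySystem hYS hSY).IsSaturated p :=
  (isSaturated_copyOver (normalizerSystem (groupFusionSystem (S : Subgroup G)) Y hYS) _).2
    (isSaturated_normalizerSystem S.2 (groupFusionSystem_isSaturated S)
      (isFullyNormalized_of_le_normalizer hYS hSY) (isNormalizerSystem_normalizerSystem _ Y hYS))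

/-- `Z (Y ∩ T)` is a chosen subgroup. -/
theorem sup_mem_choice (hSY : (S : Subgroup G) ≤ Subgroup.normalizer (Y : Set G))
    (hYS : Y ≤ (S : Subgroup G)) {T Z : Subgroup G} (hZT : Z ≤ T) (hne : ¬ Y ⊓ T ≤ Z) :
    Z ⊔ (Y ⊓ T) ∈ choice (S : Subgroup G) Y Z T := by
  by_cases h : Z = ⊥ ∧ T = (S : Subgroup G)
  · exact Or.inl ⟨h.1, h.2, Or.inr (by rw [h.1, h.2, bot_sup_eq, inf_of_le_left hYS])⟩
  · refine Or.inr ⟨h, lt_of_le_of_ne le_sup_left fun e => hne (le_sup_right.trans e.ge),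
      sup_le hZT inf_le_right, fun g hgS hgT hgZ => mem_normalizer_sup hgZ
        (mem_normalizer_inf (hSY hgS) hgT)⟩

theorem isSChoice_choice (hYS : Y ≤ (S : Subgroup G))
    (hSY : (S : Subgroup G) ≤ Subgroup.normalizer (Y : Set G)) (hY : Y ≠ ⊥)
    (hYJ : Y ≤ joinMaxAb 0 (S : Subgroup G)) :
    IsSChoice (S : Subgroup G) (choice (S : Subgroup G) Y) := by
  rintro Z R U hZR hRS (⟨rfl, rfl, rfl | rfl⟩ | ⟨-, h1, h2, h3⟩)
  · refine ⟨bot_lt_iff_ne_bot.2 fun h => hY (le_bot_iff.1 (h ▸ hYJ)), joinMaxAb_le 0 _, fun g hg _ _ => ?_⟩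
    refine Subgroup.mem_normalizer_fintype fun x hx => ?_
    have hc : ∀ z ∈ (S : Subgroup G), g * z * g⁻¹ ∈ (S : Subgroup G) := fun z hz =>
      Subgroup.mul_mem _ (Subgroup.mul_mem _ hg hz) (Subgroup.inv_mem _ hg)
    have hle : joinMaxAb 0 (S : Subgroup G) ≤
        (joinMaxAb 0 (S : Subgroup G)).comap (MulAut.conj g).toMonoidHom := by
      refine sSup_le fun A hA => Subgroup.map_le_iff_le_comap.1 (le_joinMaxAb ⟨?_, ?_, ?_, ?_⟩)
      · rintro _ ⟨a, ha, rfl⟩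
        exact hc a (hA.le ha)
      · haveI := hA.comm
        infer_instance
      · exact fun a _ => pow_zero a
      · intro B h1 h2 h3
        rw [Subgroup.card_map_of_injective (MulAut.conj g).injective]
        exact hA.max B h1 h2 h3
    exact hle hx
  · exact ⟨bot_lt_iff_ne_bot.2 hY, hYS, fun g hg _ _ => hSY hg⟩
  · exact ⟨h1, h2, h3⟩

/-- The move up to the core. -/
theorem hup_yInv (hYS : Y ≤ (S : Subgroup G))
    (hSY : (S : Subgroup G) ≤ Subgroup.normalizer (Y : Set G))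
    {T : Subgroup G} (E : Cfsg.FusionSystem T) (Z : Subgroup G)
    (hE : IsLocal (groupFusionSystem (S : Subgroup G)) p E) (hZ : E.IsNormal Z)
    (htc : ∀ (hY : E.IsNormal E.core) P, E.Hom P ⊆ (tcSystem E E.core hY).Hom P)
    (hInv : yInv Y T Z)
    (hcov : Covered (ySystem hYS hSY) (choice (S : Subgroup G) Y) E Z) :
    yInv Y T E.core ∨ E.IsSubsystemOf (ySystem hYS hSY) := by
  by_cases h : yInv Y T E.core
  · exact Or.inl h
  refine Or.inr ?_
  rw [yInv, Classical.not_imp] at h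
  obtain ⟨hYc, hYT⟩ := h
  have hne : ¬ Y ⊓ T ≤ Z := fun hle => hYT (hInv hle)
  have hU := sup_mem_choice hSY hYS hZ.1 hne
  have hZT : Z < T := lt_of_le_of_ne hZ.1 fun e => hne (e ▸ inf_le_right)
  set U := Z ⊔ (Y ⊓ T)
  have hUc : U ≤ E.core := sup_le (CfsgLib.FusionQuot.le_core _ hZ) hYc
  have hTU : T ≤ Subgroup.normalizer (U : Set G) := fun g hg =>
    mem_normalizer_sup (stronglyClosed_le_normalizer (isNormal_stronglyClosed hZ) hg)
      (mem_normalizer_inf (hSY (hE.le_S hg)) (Subgroup.le_normalizer hg))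
  intro P φ hφ
  obtain ⟨-, ψ, hψ, hag, t, ht, ht'⟩ := htc (CfsgLib.FusionQuot.isNormal_core E) P hφ
  refine hcov hZT U hU P ⟨hφ, le_inf (dom_le hφ) ((dom_le hφ).trans hTU),
    fun x => ⟨map_mem hφ x, hTU (map_mem hφ x)⟩,
    ψ.comp (Subgroup.inclusion (sup_le_sup_left hUc P)), restrict_mem hψ _, fun x => hag x, ?_⟩
  have : Finite U := finite_of_le (hUc.trans (CfsgLib.FusionQuot.isNormal_core E).1)
  rw [← range_comp_inclusion le_sup_right]
  refine range_eq_of_le (((hom_inj hψ).comp (Subgroup.inclusion_injective _)).comp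
    (Subgroup.inclusion_injective _)) fun u => ?_
  show ψ (Subgroup.inclusion le_sup_right ⟨(u : G), hUc u.2⟩) ∈ U
  rw [ht']
  exact (Subgroup.mem_normalizer_iff.1 (hTU ht) _).1 u.2

/-- The constrained case: a datum, or the maps are in the system of `N_G(Y)`. -/
theorem hcons_zj (hp2 : p ≠ 2) (hYS : Y ≤ (S : Subgroup G)) (hYc : IsMulCommutative Y)
    (hSY : (S : Subgroup G) ≤ Subgroup.normalizer (Y : Set G))
    (hYA : ∀ A, IsMaxAb 0 (S : Subgroup G) A → Y ≤ A) (hnd : ¬ HasDatum p (S : Subgroup G) Y)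
    {T : Subgroup G} (E : Cfsg.FusionSystem T) (Z : Subgroup G)
    (hE : IsLocal (groupFusionSystem (S : Subgroup G)) p E) (hZ : E.IsNormal Z)
    (hp : IsPGroup p (E.autGroup Z)) (hInv : yInv Y T Z) (hlt : Z < E.core)
    (hC : centralizerIn T E.core ≤ E.core)
    (hcov : Covered (ySystem hYS hSY) (choice (S : Subgroup G) Y) E Z) :
    E.IsSubsystemOf (ySystem hYS hSY) := by
  classical
  have hFsat := groupFusionSystem_isSaturated S
  have hG' := ySystem_isSaturated hYS hSY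
  have hT : IsPGroup p T := hE.isPGroup S.2
  have hTS := hE.le_S
  obtain ⟨D⟩ := exists_coreData S.2 hFsat hE hC
  refine le_of_autGroup_core S.2 hFsat hG' (ySystem_le hYS hSY) hE hC fun α hα => ?_
  have hcT : E.core ≤ T := D.hle
  have hαE : IsFIso E (α : E.core ≃* E.core) := (mem_autGroup_iff hcT).1 hα
  refine (mem_autGroup_iff (hcT.trans hTS)).2 ?_
  show E.core.subtype.comp (α : E.core ≃* E.core).toMonoidHom ∈ (ySystem hYS hSY).Hom E.core
  set φ := E.core.subtype.comp (α : E.core ≃* E.core).toMonoidHom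
  by_cases hYZ : Y ⊓ T ≤ Z
  · -- `Y ≤ Z`: the action on `Z` comes from `T`
    have hYZ' : Y ≤ Z := (le_inf le_rfl (hInv hYZ)).trans hYZ
    obtain ⟨-, -, g, hg⟩ := hE.1 _ hαE
    refine mem_ySystem hYS hSY (hE.1 _ hαE) (k := g) ?_ hg
    have hres := restrict_mem (P := Z) hαE hlt.le
    obtain ⟨β, hβ, hβv⟩ := exists_aut hres (range_eq_of_le (hom_inj hres) fun x =>
      (isNormal_stronglyClosed hZ).2 _ le_rfl _ hres x)
    have hfn : E.IsFullyNormalized Z := isFullyNormalized_of_le_normalizer hZ.1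
      (stronglyClosed_le_normalizer (isNormal_stronglyClosed hZ))
    obtain ⟨-, P₀, hP₀⟩ := isFullyAutomized_of_isFullyNormalized hT hE.2.1 hfn
    have htop := P₀.3 (hp.of_equiv Subgroup.topEquiv.symm) le_top
    have hmem : (⟨β, hβ⟩ : E.autGroup Z) ∈ (P₀ : Subgroup (E.autGroup Z)) := htop ▸ trivial
    rw [hP₀, Subgroup.mem_subgroupOf] at hmem
    obtain ⟨t, ht, ht'⟩ := mem_autInducedBy_iff.1 hmem
    refine Subgroup.mem_normalizer_fintype fun y hy => ?_
    have h1 : φ (Subgroup.inclusion hlt.le ⟨y, hYZ' hy⟩) = t * y * t⁻¹ :=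
      (hβv ⟨y, hYZ' hy⟩).symm.trans (ht' ⟨y, hYZ' hy⟩)
    have h2 := hg (Subgroup.inclusion hlt.le ⟨y, hYZ' hy⟩)
    rw [show g * y * g⁻¹ = t * y * t⁻¹ from h2.symm.trans h1]
    exact (Subgroup.mem_normalizer_iff.1 (hSY (hTS ht)) y).1 hy
  obtain ⟨l, hl⟩ := D.surj ⟨α, hα⟩
  have hι := D.model.2.1
  set U := Z ⊔ (Y ⊓ T) with hUdef
  have hU := sup_mem_choice hSY hYS hZ.1 hYZ
  have hZT : Z < T := hlt.trans_le hcT
  have hUT : U ≤ T := sup_le hZ.1 inf_le_right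
  have hTU : T ≤ Subgroup.normalizer (U : Set G) := fun g hg =>
    mem_normalizer_sup (stronglyClosed_le_normalizer (isNormal_stronglyClosed hZ) hg)
      (mem_normalizer_inf (hSY (hTS hg)) (Subgroup.le_normalizer hg))
  by_cases hall : ∀ u : U, ∃ v : T, (v : G) ∈ U ∧ l * D.ι ⟨u, hUT u.2⟩ * l⁻¹ = D.ι v
  · obtain ⟨ψ, hψ, hψv⟩ := exists_normalizerHom hι hUT hTU hcT l
      (fun x => ⟨_, (D.equiv l x).symm⟩) hall
    have he : ψ = φ := MonoidHom.ext fun x => by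
      have h1 := (hψv x (map_mem hψ.1 x)).trans (D.equiv l x)
      rw [hl] at h1
      exact realized_inj hι h1
    exact he ▸ hcov hZT U hU _ hψ
  exfalso
  refine hnd ?_
  clear hαE hα hl
  -- the quotient of the model
  haveI hn : ((Z.subgroupOf T).map D.ι).Normal := D.normal_map hZ hlt.le
  set mk := QuotientGroup.mk' ((Z.subgroupOf T).map D.ι) with hmk
  set π : T →* D.L ⧸ (Z.subgroupOf T).map D.ι := mk.comp D.ι with hπdef
  have hker : ∀ r : T, π r = 1 ↔ (r : G) ∈ Z := fun r => by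
    constructor
    · intro h
      obtain ⟨z, hz, hzr⟩ := (QuotientGroup.eq_one_iff (D.ι r)).1 h
      exact hι.1 hzr ▸ hz
    · exact fun h => (QuotientGroup.eq_one_iff (D.ι r)).2 ⟨r, h, rfl⟩
  have hrange : ∀ x, mk x ∈ π.range → x ∈ D.ι.range := by
    rintro x ⟨r, hr⟩
    obtain ⟨z, -, hz⟩ := QuotientGroup.eq.1 hr
    exact ⟨r * z, by rw [map_mul, hz, mul_inv_cancel_left]⟩
  have hmem : ∀ (V : Subgroup G), Z ≤ V → ∀ x, (∃ r : T, (r : G) ∈ V ∧ mk x = π r) →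
      ∃ v : T, (v : G) ∈ V ∧ x = D.ι v := by
    rintro V hZV x ⟨r, hrV, hr⟩
    obtain ⟨z, hz, hzv⟩ := QuotientGroup.eq.1 hr.symm
    exact ⟨r * z, mul_mem hrV (hZV hz), by rw [map_mul, hzv, mul_inv_cancel_left]⟩
  obtain ⟨P₁, hP₁⟩ := D.model.2.2.1
  haveI : Finite D.L := D.model.1
  set Pb := P₁.mapSurjective (QuotientGroup.mk'_surjective ((Z.subgroupOf T).map D.ι)) with hPbdef
  have hPb : (Pb : Subgroup (D.L ⧸ (Z.subgroupOf T).map D.ι)) = π.range := by
    rw [hπdef, MonoidHom.range_comp, hPbdef, ← hP₁]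
    rfl
  set Yb := (U.subgroupOf T).map π with hYbdef
  have hYbn : ¬ Yb.Normal := fun hYn => hall fun u => by
    obtain ⟨v, hv, hve⟩ := hYn.conj_mem _ ⟨⟨u, hUT u.2⟩, u.2, rfl⟩ (mk l)
    refine hmem U le_sup_left _ ⟨v, hv, ?_⟩
    rw [hve, map_mul, map_mul, map_inv]
    rfl
  have hYbP : Yb ≤ π.range := Subgroup.map_le_range _ _
  have hPY : π.range ≤ Subgroup.normalizer (Yb : Set (D.L ⧸ (Z.subgroupOf T).map D.ι)) := by
    rintro _ ⟨r, rfl⟩
    refine Subgroup.mem_normalizer_fintype ?_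
    rintro _ ⟨u, hu, rfl⟩
    exact ⟨r * u * r⁻¹, (Subgroup.mem_normalizer_iff.1 (hTU r.2) _).1 hu, by simp⟩
  -- elements of `Yb` come from `Y ∩ T`
  have hYbmem : ∀ z ∈ Yb, ∃ r : T, (r : G) ∈ Y ∧ π r = z := by
    have hle : U.subgroupOf T ≤ (((Y ⊓ T).subgroupOf T).map π).comap π := by
      intro r hr
      have h1 : U ≤ ((((Y ⊓ T).subgroupOf T).map π).comap π).map T.subtype := sup_le
        (fun z hz => ⟨⟨z, hZ.1 hz⟩, by
          rw [SetLike.mem_coe, Subgroup.mem_comap, (hker _).2 hz]; exact one_mem _, rfl⟩)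
        (fun y hy => ⟨⟨y, hy.2⟩, ⟨⟨y, hy.2⟩, hy, rfl⟩, rfl⟩)
      obtain ⟨r', hr', he⟩ := h1 hr
      exact (Subtype.ext he : r' = r) ▸ hr'
    rintro _ ⟨r, hr, rfl⟩
    obtain ⟨r', hr', he⟩ := hle hr
    exact ⟨r', hr'.1, he⟩
  have hYbY : ∀ r : T, π r ∈ Yb → (r : G) ∈ U := fun r hr => by
    obtain ⟨u, hu, hue⟩ := hr
    have h1 : π (u⁻¹ * r) = 1 := by rw [map_mul, map_inv, hue, inv_mul_cancel]
    have h2 := mul_mem (show (u : G) ∈ U from hu) (Subgroup.mem_sup_left ((hker _).1 h1) :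
      ((u⁻¹ * r : T) : G) ∈ U)
    simpa using h2
  -- a minimal overgroup of the Sylow group not normalizing `Yb`
  obtain ⟨X, ⟨hPX, hXY⟩, hXmin⟩ := Set.exists_min_image
    {K : Subgroup (D.L ⧸ (Z.subgroupOf T).map D.ι) |
      π.range ≤ K ∧ ¬ K ≤ Subgroup.normalizer (Yb : Set (D.L ⧸ (Z.subgroupOf T).map D.ι))}
    (fun K => Nat.card K) (Set.toFinite _) ⟨⊤, le_top, fun h => hYbn
      (Subgroup.normalizer_eq_top_iff.1 (top_le_iff.1 h))⟩
  set PX := Pb.subtype (hPb ▸ hPX : (Pb : Subgroup (D.L ⧸ (Z.subgroupOf T).map D.ι)) ≤ X)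
  let πX : T →* X := π.codRestrict X fun r => hPX ⟨r, rfl⟩
  have hπX : ∀ r : T, ((πX r : X) : D.L ⧸ (Z.subgroupOf T).map D.ι) = π r := fun r => rfl
  have hPXr : (PX : Subgroup X) = πX.range := by
    ext x
    show (x : D.L ⧸ _) ∈ (Pb : Subgroup (D.L ⧸ (Z.subgroupOf T).map D.ι)) ↔ _
    rw [hPb]
    exact ⟨fun ⟨r, hr⟩ => ⟨r, Subtype.ext hr⟩, fun ⟨r, hr⟩ => ⟨r, congrArg Subtype.val hr⟩⟩
  set YX := Yb.subgroupOf X
  have hYX : YX ≤ (PX : Subgroup X) := fun x hx => by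
    rw [hPXr]
    obtain ⟨r, -, hr⟩ := hx
    exact ⟨r, Subtype.ext hr⟩
  have hXY' : ¬ YX.Normal := fun hn' => hXY
    ((Subgroup.normal_subgroupOf_iff_le_normalizer (hYbP.trans hPX)).1 hn')
  have hNX : ∀ g : X, g ∈ Subgroup.normalizer (YX : Set X) →
      (g : D.L ⧸ _) ∈ Subgroup.normalizer (Yb : Set (D.L ⧸ (Z.subgroupOf T).map D.ι)) := fun g hg =>
    Subgroup.mem_normalizer_fintype fun z hz =>
      (Subgroup.mem_normalizer_iff.1 hg ⟨z, hPX (hYbP hz)⟩).1 hz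
  have hYXc : IsMulCommutative YX := IsMulCommutative.of_setLike_mul_comm fun a ha b hb => by
    obtain ⟨r, hr, hra⟩ := hYbmem (a : D.L ⧸ (Z.subgroupOf T).map D.ι) ha
    obtain ⟨q, hq, hqb⟩ := hYbmem (b : D.L ⧸ (Z.subgroupOf T).map D.ι) hb
    apply Subtype.ext
    show ((a : X) : D.L ⧸ (Z.subgroupOf T).map D.ι) * (b : D.L ⧸ (Z.subgroupOf T).map D.ι) =
      (b : D.L ⧸ (Z.subgroupOf T).map D.ι) * (a : D.L ⧸ (Z.subgroupOf T).map D.ι)
    rw [← hra, ← hqb, ← map_mul, ← map_mul]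
    exact congrArg π (Subtype.ext (setLike_mul_comm (s := Y) hr hq))
  have hPYX : (PX : Subgroup X) ≤ Subgroup.normalizer (YX : Set X) := by
    intro g hg
    rw [hPXr] at hg
    obtain ⟨r, rfl⟩ := hg
    exact Subgroup.mem_normalizer_fintype fun z hz =>
      (Subgroup.mem_normalizer_iff.1 (hPY ⟨r, rfl⟩) _).1 hz
  have hmin : ∀ K : Subgroup X, (PX : Subgroup X) ≤ K → K ≠ ⊤ →
      K ≤ Subgroup.normalizer (YX : Set X) := by
    intro K hK hKne g hg
    have hKN : K.map X.subtype ≤ Subgroup.normalizer (Yb : Set (D.L ⧸ (Z.subgroupOf T).map D.ι)) := by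
      by_contra hcon
      refine hKne (Subgroup.map_injective X.subtype_injective ?_)
      rw [← MonoidHom.range_eq_map, Subgroup.range_subtype]
      refine Subgroup.eq_of_le_of_card_ge (Subgroup.map_subtype_le K) (hXmin _ ⟨?_, hcon⟩)
      rintro _ ⟨r, rfl⟩
      exact ⟨πX r, hK (hPXr ▸ ⟨r, rfl⟩), rfl⟩
    exact Subgroup.mem_normalizer_fintype fun z hz =>
      (Subgroup.mem_normalizer_iff.1 (hKN ⟨g, hg, rfl⟩) _).1 hz
  have hCX : Subgroup.centralizer (pCore p X : Set X) ≤ pCore p X :=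
    constrained_subgroup Pb (hPb ▸ hPX) (D.quotient_constrained hT hZ hlt.le hp)
  -- covered subgroups give maps of `N_G(Y)`
  have hkeep : ∀ (V : Subgroup G), V ∈ choice (S : Subgroup G) Y Z T → Z ≤ V → V ≤ T →
      T ≤ Subgroup.normalizer (V : Set G) → ∀ W : Subgroup X, W ≤ (PX : Subgroup X) →
      (∀ r : T, (r : G) ∈ V ↔ πX r ∈ W) → KeepsY (PX : Subgroup X) YX W := by
    intro V hV hZV hVT hTV W hWP hVW x hx y hy hxy
    obtain ⟨r, hrY, hr⟩ := hYbmem _ hy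
    obtain ⟨m, hm⟩ := QuotientGroup.mk'_surjective _ (x : D.L ⧸ (Z.subgroupOf T).map D.ι)
    rw [hPXr] at hxy
    obtain ⟨q, hq⟩ := hxy
    have hq' : π q = mk m * π r * (mk m)⁻¹ := by
      rw [hr, hm]
      exact congrArg Subtype.val hq
    obtain ⟨ψ, hψ, hψv⟩ := exists_normalizerHom hι (P := Subgroup.zpowers (r : G)) hVT hTV
      (Subgroup.zpowers_le.2 r.2) m (fun z => by
        obtain ⟨i, hi⟩ := z.2
        rw [show (⟨(z : G), _⟩ : T) = r ^ i from Subtype.ext (hi.symm.trans (SubgroupClass.coe_zpow r i).symm),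
          map_zpow, ← conj_zpow]
        refine zpow_mem (hrange _ ⟨q, ?_⟩) i
        rw [hq', map_mul, map_mul, map_inv]
        rfl) fun v => by
        have h1 := (Subgroup.mem_normalizer_iff.1 hx _).1 ((hVW ⟨v, hVT v.2⟩).1 v.2)
        obtain ⟨w, hw⟩ := (hPXr ▸ hWP h1 : _ ∈ πX.range)
        refine hmem V hZV _ ⟨w, (hVW w).2 (hw ▸ h1), ?_⟩
        rw [map_mul, map_mul, map_inv, hm]
        exact (congrArg Subtype.val hw).symm
    obtain ⟨k, hk, hkv⟩ := ySystem_conj hYS hSY (hcov hZT V hV _ hψ)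
    set z : Subgroup.zpowers (r : G) := ⟨r, Subgroup.mem_zpowers _⟩
    have h2 : ψ z ∈ Y := by rw [hkv]; exact (Subgroup.mem_normalizer_iff.1 hk _).1 hrY
    rw [← hq]
    refine ⟨⟨ψ z, map_mem hψ.1 z⟩, Subgroup.mem_sup_right ⟨h2, map_mem hψ.1 z⟩, ?_⟩
    show π ⟨ψ z, _⟩ = π q
    rw [hq', hπdef, MonoidHom.comp_apply, hψv, map_mul, map_mul, map_inv]
    rfl
  obtain ⟨Q, D₀, D₀', a, n, u, w, y, s, t, hd⟩ := exists_datum hp2 PX hYX hYXc hPYX hXY' hmin hCX (by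
    by_cases hsp : Z = ⊥ ∧ T = (S : Subgroup G)
    · -- `Z = ⊥`, `T = S`
      obtain ⟨hZ0, hTS'⟩ := hsp
      have hinj : Function.Injective πX := by
        rw [injective_iff_map_eq_one]
        intro r hr
        have h1 := (hker r).1 (congrArg Subtype.val hr)
        rw [hZ0, Subgroup.mem_bot] at h1
        exact Subtype.ext h1
      have hPX' : (PX : Subgroup X) = (⊤ : Subgroup T).map πX := by
        rw [hPXr, MonoidHom.range_eq_map]
      have hS' : (S : Subgroup G) = (⊤ : Subgroup T).map T.subtype := by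
        rw [← MonoidHom.range_eq_map, Subgroup.range_subtype, hTS']
      refine Or.inr ⟨?_, fun A hA => ?_⟩
      · have hJ1 : joinMaxAb 0 (PX : Subgroup X) = (joinMaxAb 0 (⊤ : Subgroup T)).map πX := by
          rw [hPX']; exact (CfsgLib.ZJCenter.joinMaxAb_map hinj 0 _).symm
        have hJ2 : joinMaxAb 0 (S : Subgroup G) = (joinMaxAb 0 (⊤ : Subgroup T)).map T.subtype := by
          rw [hS']; exact (CfsgLib.ZJCenter.joinMaxAb_map T.subtype_injective 0 _).symm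
        refine hkeep (joinMaxAb 0 (S : Subgroup G)) (Or.inl ⟨hZ0, hTS', Or.inl rfl⟩)
          (hZ0 ▸ bot_le) (hJ2 ▸ Subgroup.map_subtype_le _) ?_ _ (joinMaxAb_le 0 _) fun r => ?_
        · intro g hg
          refine Subgroup.mem_normalizer_fintype fun z hz => ?_
          rw [hJ2] at hz ⊢
          obtain ⟨z', hz', rfl⟩ := hz
          have hJn : (joinMaxAb 0 (⊤ : Subgroup T)).Normal := ⟨fun v hv b => by
            have hc := CfsgLib.ZJCenter.joinMaxAb_map (f := (MulAut.conj b).toMonoidHom)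
              (MulAut.conj b).injective 0 (⊤ : Subgroup T)
            rw [Subgroup.map_top_of_surjective _ (MulAut.conj b).surjective] at hc
            exact hc.le ⟨v, hv, rfl⟩⟩
          exact ⟨_, hJn.conj_mem z' hz' ⟨g, hg⟩, rfl⟩
        · rw [hJ1, hJ2]
          constructor
          · rintro ⟨r', hr', he⟩
            exact ⟨r', hr', congrArg πX (Subtype.ext he)⟩
          · rintro ⟨r', hr', he⟩
            exact ⟨r', hr', congrArg Subtype.val (hinj he)⟩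
      · rw [hPX'] at hA
        have hA' : (A.comap πX).map πX = A := Subgroup.map_comap_eq_self
          (hA.le.trans (Subgroup.map_le_range _ _))
        rw [← hA'] at hA
        have h1 := CfsgLib.ZJCenter.isMaxAb_map T.subtype_injective
          (CfsgLib.ZJCenter.isMaxAb_of_map hinj hA)
        rw [← hS'] at h1
        intro x hx
        obtain ⟨r, hrY, hr⟩ := hYbmem _ hx
        obtain ⟨r', hr', he⟩ := hYA _ h1 hrY
        rw [show x = πX r' from Subtype.ext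
          (hr.symm.trans (congrArg π (Subtype.ext he.symm)))]
        exact hr'
    · refine Or.inl fun W hWP hWne hcan => ?_
      set V := (W.comap πX).map T.subtype with hVdef
      have hVmem : ∀ r : T, (r : G) ∈ V ↔ πX r ∈ W := fun r =>
        ⟨fun ⟨r', hr', e⟩ => Subtype.ext e ▸ hr', fun hr => ⟨r, hr, rfl⟩⟩
      have hZV : Z ≤ V := fun z hz => ⟨⟨z, hZ.1 hz⟩, by
        rw [SetLike.mem_coe, Subgroup.mem_comap,
          show πX ⟨z, hZ.1 hz⟩ = 1 from Subtype.ext ((hker _).2 hz)]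
        exact one_mem _, rfl⟩
      have hVT : V ≤ T := Subgroup.map_subtype_le _
      have hinvV : ∀ g ∈ (S : Subgroup G), g ∈ Subgroup.normalizer (T : Set G) →
          g ∈ Subgroup.normalizer (Z : Set G) → g ∈ Subgroup.normalizer (V : Set G) := by
        intro g hgS hgT hgZ
        set c : T ≃* T := conjAut T g hgT
        have hgU : g ∈ Subgroup.normalizer (U : Set G) :=
          mem_normalizer_sup hgZ (mem_normalizer_inf (hSY hgS) hgT)
        let πP : T →* (PX : Subgroup X) := πX.codRestrict _ fun r => hPXr ▸ ⟨r, rfl⟩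
        have hπP : Function.Surjective πP := fun x => by
          obtain ⟨r, hr⟩ := (hPXr.le x.2 : (x : X) ∈ πX.range)
          exact ⟨r, Subtype.ext hr⟩
        have hπPk : ∀ r, r ∈ πP.ker ↔ (r : G) ∈ Z := fun r => by
          rw [← hker, MonoidHom.mem_ker, Subtype.ext_iff, Subtype.ext_iff]
          rfl
        have hck : πP.ker.map c.toMonoidHom = πP.ker := by
          refine Subgroup.eq_of_le_of_card_ge ?_ (Subgroup.card_map_of_injective c.injective).ge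
          rintro _ ⟨r, hr, rfl⟩
          rw [SetLike.mem_coe, hπPk] at hr
          rw [hπPk]
          rw [show ((c.toMonoidHom r : T) : G) = g * r * g⁻¹ from conjAut_apply hgT r]
          exact (Subgroup.mem_normalizer_iff.1 hgZ _).1 hr
        set qk := QuotientGroup.quotientKerEquivOfSurjective πP hπP
        let e : (PX : Subgroup X) ≃* (PX : Subgroup X) :=
          (qk.symm.trans (QuotientGroup.congr _ _ c hck)).trans qk
        have he : ∀ r, e (πP r) = πP (c r) := fun r => by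
          have h1 : qk.symm (πP r) = (QuotientGroup.mk r : T ⧸ πP.ker) := by
            rw [MulEquiv.symm_apply_eq]; rfl
          show qk (QuotientGroup.congr _ _ c hck (qk.symm (πP r))) = _
          rw [h1]
          rfl
        have hpres : ∀ z : (PX : Subgroup X), (z : X) ∈ YX ↔ (e z : X) ∈ YX := fun z => by
          obtain ⟨r, rfl⟩ := hπP z
          rw [he]
          have hU' : ∀ q : T, (πP q : X) ∈ YX ↔ (q : G) ∈ U := fun q =>
            ⟨fun h => hYbY q h, fun h => ⟨q, h, rfl⟩⟩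
          rw [hU', hU', show ((c r : T) : G) = g * r * g⁻¹ from conjAut_apply hgT r]
          exact Subgroup.mem_normalizer_iff.1 hgU _
        refine Subgroup.mem_normalizer_fintype ?_
        rintro _ ⟨r, hr, rfl⟩
        refine ⟨c r, ?_, conjAut_apply hgT r⟩
        show πX (c r) ∈ W
        have h1 := hcan e hpres (πP r) hr
        rw [he] at h1
        exact h1
      refine hkeep V (Or.inr ⟨hsp, lt_of_le_of_ne hZV fun heq => hWne ?_, hVT, hinvV⟩) hZV hVT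
        (fun g hg => hinvV g (hTS hg) (Subgroup.le_normalizer hg)
          (stronglyClosed_le_normalizer (isNormal_stronglyClosed hZ) hg)) W hWP hVmem
      rw [Subgroup.eq_bot_iff_forall]
      intro x hx
      obtain ⟨r, hr⟩ := (hPXr ▸ hWP hx : x ∈ πX.range)
      have h1 : (r : G) ∈ Z := heq ▸ (hVmem r).2 (hr ▸ hx)
      rw [← hr]
      exact Subtype.ext ((hker r).2 h1))
  refine hasDatum_of_hom hTS πX hd hPXr.le (fun z hz => ?_) fun g hgY hgQ => ?_
  · obtain ⟨r, hr, hre⟩ := hYbmem _ hz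
    exact ⟨r, hr, Subtype.ext hre⟩
  -- twins in `N_G(Y)`
  obtain ⟨m, hm⟩ := QuotientGroup.mk'_surjective _ (g : D.L ⧸ (Z.subgroupOf T).map D.ι)
  have hrangeQ : ∀ q : T, πX q ∈ Q → m * D.ι q * m⁻¹ ∈ D.ι.range := by
    intro q hq
    have h1 := (Subgroup.mem_normalizer_iff.1 hgQ _).1 hq
    obtain ⟨w', hw'⟩ := (hPXr.le (hd.Q_le h1) : _ ∈ πX.range)
    refine hrange _ ⟨w', ?_⟩
    rw [map_mul, map_mul, map_inv, hm]
    exact congrArg Subtype.val hw'
  obtain ⟨ψ, hψ, hψv⟩ := exists_normalizerHom hι (P := (Q.comap πX).map T.subtype) hUT hTU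
    (Subgroup.map_subtype_le _) m (fun x => by
      obtain ⟨q, hq, hqx⟩ := x.2
      rw [show (⟨(x : G), _⟩ : T) = q from Subtype.ext hqx.symm]
      exact hrangeQ q hq) fun v => by
      have h1 := (Subgroup.mem_normalizer_iff.1 (hNX g hgY) _).1
        (show π ⟨v, hUT v.2⟩ ∈ Yb from ⟨⟨v, hUT v.2⟩, v.2, rfl⟩)
      obtain ⟨w', hw', hwe⟩ := h1
      refine hmem U le_sup_left _ ⟨w', hw', ?_⟩
      rw [map_mul, map_mul, map_inv, hm, hwe]
      rfl
  obtain ⟨k, hk, hkv⟩ := ySystem_conj hYS hSY (hcov hZT U hU _ hψ)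
  refine ⟨k, hk, fun q hq => ?_⟩
  have hm' := hkv ⟨q, q, hq, rfl⟩
  refine ⟨hm' ▸ map_mem hψ.1 _, Subtype.ext ?_⟩
  show π ⟨k * (q : G) * k⁻¹, _⟩ = (g : D.L ⧸ _) * π q * (g : D.L ⧸ _)⁻¹
  rw [show (⟨k * (q : G) * k⁻¹, _⟩ : T) = ⟨ψ ⟨q, q, hq, rfl⟩, map_mem hψ.1 _⟩ from Subtype.ext hm'.symm,
    hπdef, MonoidHom.comp_apply, hψv, map_mul, map_mul, map_inv, hm]
  rfl

/-- **Main theorem.**  Without a datum, `N_G(Y)` has all the fusion. -/
theorem le_ySystem_of_not_hasDatum (hp2 : p ≠ 2) (hYS : Y ≤ (S : Subgroup G))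
    (hYc : IsMulCommutative Y) (hSY : (S : Subgroup G) ≤ Subgroup.normalizer (Y : Set G))
    (hY : Y ≠ ⊥) (hYA : ∀ A, IsMaxAb 0 (S : Subgroup G) A → Y ≤ A)
    (hJY : Subgroup.normalizer (joinMaxAb 0 (S : Subgroup G) : Set G) ≤
      Subgroup.normalizer (Y : Set G))
    (hnd : ¬ HasDatum p (S : Subgroup G) Y) :
    (groupFusionSystem (S : Subgroup G)).IsSubsystemOf (ySystem hYS hSY) := by
  have hFsat := groupFusionSystem_isSaturated S
  obtain ⟨A, hA⟩ := exists_isMaxAb 0 (S : Subgroup G)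
  refine control S.2 (Inv := yInv Y) (isSChoice_choice hYS hSY hY ((hYA A hA).trans (le_joinMaxAb hA)))
    (isHereditary_yInv hSY S.2) (hup_yInv hYS hSY)
    (hcons_zj hp2 hYS hYc hSY hYA hnd) (isLocal_self hFsat) (Z := ⊥)
    ⟨bot_le, fun P φ hφ => ?_⟩ (fun a => ⟨0, Subtype.ext (MulEquiv.ext fun x => Subsingleton.elim _ _)⟩)
    (fun _ => hYS) ?_
  · refine ⟨φ.comp (Subgroup.inclusion (sup_le le_rfl bot_le)), restrict_mem hφ _, fun x => rfl, ?_⟩
    ext y
    rw [mem_map_subgroupOf]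
    constructor
    · rintro ⟨x, hx, hx1, rfl⟩
      have : (⟨x, hx⟩ : ↥(P ⊔ ⊥)) = 1 := Subtype.ext (Subgroup.mem_bot.1 hx1)
      rw [this, map_one]
      exact one_mem _
    · intro hy
      rw [Subgroup.mem_bot] at hy
      exact ⟨1, one_mem _, one_mem _, by rw [hy]; exact map_one _⟩
  · intro _ U hU P φ hφ
    obtain ⟨hφF, -, -, ψ, ⟨-, -, g, hg⟩, hag, hmap⟩ := hφ
    refine mem_ySystem hYS hSY hφF (k := g) ?_ fun x => (hag x).symm.trans (hg _)
    have hgU : g ∈ Subgroup.normalizer (U : Set G) := Subgroup.mem_normalizer_fintype fun z hz => by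
      have h1 := mem_of_map_subgroupOf_sup_eq hmap ⟨z, hz⟩
      rwa [hg] at h1
    rcases hU with ⟨-, -, rfl | rfl⟩ | ⟨h, -⟩
    · exact hJY hgU
    · exact hgU
    · exact absurd ⟨rfl, rfl⟩ h

end Cons

end CfsgLib.ZJFusion
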