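import Cfsg.Agent.Lib.PLocal.DicksonSection
import Mathlib.RingTheory.IntegralDomain
import Mathlib.FieldTheory.IsAlgClosed.AlgebraicClosure
import Mathlib.LinearAlgebra.Matrix.ToLin

/-!
# Two quadratic elements on an irreducible module

`exists_torus`: if `L = ⟨a, b⟩` acts irreducibly on an elementary abelian `p`-group (`p` odd) with
`a`, `b` quadratic and `a` non-trivial, then `L` acts as a subgroup of `SL₂(K)` on `K²`, and some
element fixing the line `C(a)` acts on it as a generator `s` of the prime field, another one as `-1`.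
-/

set_option autoImplicit false
set_option maxRecDepth 2000
set_option linter.style.haveILetI false

namespace CfsgLib.ZJFusion

open Matrix CfsgLib.PLoc
open scoped MatrixGroups

/-! ### Matrices -/

section Mat

variable {K : Type*} [Field K]

theorem coe_mul_sl (g h : SL(2, K)) : ((g * h : SL(2, K)) : Matrix (Fin 2) (Fin 2) K) =
    (g : Matrix (Fin 2) (Fin 2) K) * (h : Matrix (Fin 2) (Fin 2) K) := rfl

theorem coe_pow_zero_zero {g : SL(2, K)} (hg : (g : Matrix (Fin 2) (Fin 2) K) 1 0 = 0) (m : ℕ) :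
    ((g ^ m : SL(2, K)) : Matrix (Fin 2) (Fin 2) K) 0 0 = ((g : Matrix (Fin 2) (Fin 2) K) 0 0) ^ m ∧
      ((g ^ m : SL(2, K)) : Matrix (Fin 2) (Fin 2) K) 1 0 = 0 ∧
      ((g ^ m : SL(2, K)) : Matrix (Fin 2) (Fin 2) K) 1 1 = ((g : Matrix (Fin 2) (Fin 2) K) 1 1) ^ m := by
  induction m with
  | zero => simp
  | succ m ih =>
    obtain ⟨h1, h2, h3⟩ := ih
    refine ⟨?_, ?_, ?_⟩ <;>
      simp only [pow_succ, coe_mul_sl, Matrix.mul_apply, Fin.sum_univ_two, h1, h2, h3, hg] <;> ring

theorem coe_pow_zero_one {g : SL(2, K)} (hg : (g : Matrix (Fin 2) (Fin 2) K) 1 0 = 0)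
    (hd : (g : Matrix (Fin 2) (Fin 2) K) 1 1 = (g : Matrix (Fin 2) (Fin 2) K) 0 0) (m : ℕ) :
    ((g ^ m : SL(2, K)) : Matrix (Fin 2) (Fin 2) K) 0 1 * (g : Matrix (Fin 2) (Fin 2) K) 0 0 =
      (m : K) * (g : Matrix (Fin 2) (Fin 2) K) 0 1 * ((g : Matrix (Fin 2) (Fin 2) K) 0 0) ^ m := by
  induction m with
  | zero => simp
  | succ m ih =>
    have h00 := (coe_pow_zero_zero hg m).1
    simp only [pow_succ, coe_mul_sl, Matrix.mul_apply, Fin.sum_univ_two, hd] at ih ⊢
    push_cast
    rw [h00]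
    linear_combination (g : Matrix (Fin 2) (Fin 2) K) 0 0 * ih

/-- In odd characteristic the only involution is `-1`. -/
theorem eq_neg_one_of_sq {g : SL(2, K)} (h2 : (2 : K) ≠ 0) (hg : g ^ 2 = 1) (hne : g ≠ 1) :
    g = -1 := by
  have hd : (g : Matrix (Fin 2) (Fin 2) K) 0 0 * (g : Matrix (Fin 2) (Fin 2) K) 1 1 -
      (g : Matrix (Fin 2) (Fin 2) K) 0 1 * (g : Matrix (Fin 2) (Fin 2) K) 1 0 = 1 := by
    have := g.2
    rwa [Matrix.det_fin_two] at this
  have e : ∀ i j, ((g ^ 2 : SL(2, K)) : Matrix (Fin 2) (Fin 2) K) i j =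
      (1 : Matrix (Fin 2) (Fin 2) K) i j := by
    intro i j; rw [hg]; simp
  have e00 := e 0 0
  have e01 := e 0 1
  have e10 := e 1 0
  simp [pow_two, Matrix.mul_apply, Fin.sum_univ_two] at e00 e01 e10
  set x := (g : Matrix (Fin 2) (Fin 2) K) 0 0
  set y := (g : Matrix (Fin 2) (Fin 2) K) 0 1
  set z := (g : Matrix (Fin 2) (Fin 2) K) 1 0
  set w := (g : Matrix (Fin 2) (Fin 2) K) 1 1
  have hsum : x + w ≠ 0 := by
    intro h
    have hw : w = -x := eq_neg_of_add_eq_zero_right h
    apply h2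
    rw [hw] at hd
    linear_combination -1 * hd - 1 * e00
  have hy : y = 0 := by
    have : y * (x + w) = 0 := by linear_combination e01
    exact (mul_eq_zero.1 this).resolve_right hsum
  have hz : z = 0 := by
    have : z * (x + w) = 0 := by linear_combination e10
    exact (mul_eq_zero.1 this).resolve_right hsum
  have hx : x * x = 1 := by rw [hy, zero_mul, add_zero] at e00; exact e00
  have hw : w = x := by
    rw [hy, zero_mul, sub_zero] at hd
    linear_combination -w * hx + x * hd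
  rcases mul_self_eq_one_iff.1 hx with h | h
  · refine absurd ?_ hne
    ext i j
    fin_cases i <;> fin_cases j <;> simp [x, y, z, w] at hy hz hw h ⊢ <;> simp_all
  · ext i j
    fin_cases i <;> fin_cases j <;> simp [x, y, z, w] at hy hz hw h ⊢ <;> simp_all

/-- An element of the prime field. -/
theorem exists_natCast_of_pow {p : ℕ} [Fact p.Prime] [CharP K p] {x : K} (hx : x ^ p = x) :
    ∃ s : ℕ, (s : K) = x := by
  classical
  by_contra hcon
  push Not at hcon
  have hp : p.Prime := Fact.out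
  set f : Polynomial K := Polynomial.X ^ p - Polynomial.X
  have hf : f ≠ 0 := FiniteField.X_pow_card_sub_X_ne_zero K hp.one_lt
  set Z : Finset K := insert x ((Finset.univ : Finset (ZMod p)).image (ZMod.castHom (dvd_refl p) K))
  have hroot : Z.val ⊆ f.roots := by
    intro y hy
    rw [Polynomial.mem_roots hf]
    rcases Finset.mem_insert.1 hy with rfl | hy
    · simp [f, hx]
    · obtain ⟨c, -, rfl⟩ := Finset.mem_image.1 hy
      show (Polynomial.X ^ p - Polynomial.X : Polynomial K).IsRoot _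
      simp only [Polynomial.IsRoot.def, Polynomial.eval_sub, Polynomial.eval_pow, Polynomial.eval_X,
        ← map_pow, ZMod.pow_card, sub_self]
  have hcard := Polynomial.card_le_degree_of_subset_roots hroot
  rw [FiniteField.X_pow_card_sub_X_natDegree_eq K hp.one_lt] at hcard
  rw [Finset.card_insert_of_notMem, Finset.card_image_of_injective _ (ZMod.castHom_injective K),
    Finset.card_univ, ZMod.card] at hcard
  · omega
  · intro hy
    obtain ⟨c, -, hc⟩ := Finset.mem_image.1 hy
    exact hcon c.val (by rw [← hc, ZMod.castHom_apply, ZMod.natCast_val])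

variable {p : ℕ} [Fact p.Prime]

theorem isPGroup_zpowers_of_pow {G : Type*} [Group G] {x : G} (hx : x ^ p = 1) :
    IsPGroup p (Subgroup.zpowers x) := by
  rintro ⟨y, m, rfl⟩
  refine ⟨1, Subtype.ext ?_⟩
  show (x ^ m) ^ (p ^ 1) = 1
  rw [pow_one, ← zpow_natCast, zpow_comm, zpow_natCast, hx, _root_.one_zpow]

/-- A torus element and `-1` in a finite subgroup generated by an upper and a lower transvection. -/
theorem exists_torus_matrix [Finite K] [CharP K p] (hp2 : p ≠ 2) {X : Subgroup SL(2, K)} {z : K}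
    (hz : z ≠ 0) (hX : X = Subgroup.closure {dsU z, dsL 1}) :
    (-1 : SL(2, K)) ∈ X ∧ ∃ M ∈ X, ∃ (s t : ℕ) (x : K), orderOf (s : ZMod p) = p - 1 ∧
      (s : ZMod p) * t = 1 ∧ (M : Matrix (Fin 2) (Fin 2) K) 1 0 = 0 ∧
      (M : Matrix (Fin 2) (Fin 2) K) 0 0 = s ∧
      (M : Matrix (Fin 2) (Fin 2) K) *ᵥ ![x, 1] = (t : K) • ![x, 1] := by
  classical
  have hp : p.Prime := Fact.out
  have : Fintype K := Fintype.ofFinite K
  haveI : CharP (AlgebraicClosure K) p :=
    charP_of_injective_algebraMap (algebraMap K (AlgebraicClosure K)).injective p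
  set ι : SL(2, K) →* SL(2, AlgebraicClosure K) :=
    Matrix.SpecialLinearGroup.map (algebraMap K (AlgebraicClosure K)) with hι
  have hιinj : Function.Injective ι := by
    intro g h e
    refine Subtype.ext (Matrix.ext fun i j => ?_)
    have := congrArg (fun q : SL(2, AlgebraicClosure K) =>
      (q : Matrix (Fin 2) (Fin 2) (AlgebraicClosure K)) i j) e
    simpa [hι] using this
  have hup : ∀ c : K, dsU c ^ p = 1 := fun c => by rw [dsU_pow, CharP.cast_eq_zero, zero_mul, dsU_zero]
  have hlp : (dsL (1 : K)) ^ p = 1 := by rw [dsL_pow, CharP.cast_eq_zero, zero_mul, dsL_zero]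
  have hnc : ¬ Commute (ι (dsU z)) (ι (dsL 1)) := by
    intro h
    have h1 : dsU z * dsL 1 = dsL 1 * dsU z := hιinj (by rw [map_mul, map_mul]; exact h.eq)
    have := congrArg (fun q : SL(2, K) => (q : Matrix (Fin 2) (Fin 2) K) 0 0) h1
    simp [coe_dsU, coe_dsL, Matrix.mul_apply, Fin.sum_univ_two] at this
    exact hz this
  haveI : Finite ↥(X.map ι) := Finite.of_surjective _ (ι.subgroupMap_surjective X)
  obtain ⟨f₀, hf₀, hf₀X⟩ := sl2_embedding_of_noncommute (p := p) hp2 (X.map ι) (u := ι (dsU z))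
    (v := ι (dsL 1)) (by rw [hX, MonoidHom.map_closure, Set.image_insert_eq, Set.image_singleton])
    (by rw [← map_pow, hup, map_one]) (by rw [← map_pow, hlp, map_one]) hnc
  let e := X.equivMapOfInjective ι hιinj
  let f : SL(2, ZMod p) →* X :=
    e.symm.toMonoidHom.comp (f₀.codRestrict (X.map ι) fun g => hf₀X ⟨g, rfl⟩)
  have hf : Function.Injective f := fun g h hgh =>
    hf₀ (congrArg Subtype.val (e.symm.injective hgh))
  have h2K : (2 : K) ≠ 0 := natCast_two_ne_zero hp2
  have h2p : (2 : ZMod p) ≠ 0 := natCast_two_ne_zero hp2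
  refine ⟨?_, ?_⟩
  · have hne : (-1 : SL(2, ZMod p)) ≠ 1 := fun h => by
      have := congrArg (fun q : SL(2, ZMod p) => (q : Matrix (Fin 2) (Fin 2) (ZMod p)) 0 0) h
      simp at this
      exact h2p (by linear_combination -1 * this)
    have h1 : ((f (-1) : X) : SL(2, K)) = -1 := by
      refine eq_neg_one_of_sq h2K ?_ fun h => hne (hf (by rw [map_one]; exact Subtype.ext h))
      rw [← SubgroupClass.coe_pow, ← map_pow, neg_one_sq, map_one, OneMemClass.coe_one]
    exact h1 ▸ (f (-1)).2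
  -- a unipotent element of the embedded group inside the upper Sylow subgroup
  let uz : X := ⟨dsU z, hX ▸ Subgroup.subset_closure (by simp)⟩
  have huz : IsPGroup p (Subgroup.zpowers uz) := isPGroup_zpowers_of_pow
    (by exact Subtype.ext (by rw [SubgroupClass.coe_pow]; exact hup z))
  have hu1 : IsPGroup p (Subgroup.zpowers (f (dsU 1))) := isPGroup_zpowers_of_pow
    (by rw [← map_pow, dsU_pow, CharP.cast_eq_zero, zero_mul, dsU_zero, map_one])
  obtain ⟨P, hP⟩ := huz.exists_le_sylow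
  obtain ⟨P₀, hP₀⟩ := hu1.exists_le_sylow
  obtain ⟨g, hg⟩ := MulAction.exists_smul_eq X P₀ P
  have hgP : g * f (dsU 1) * g⁻¹ ∈ (P : Subgroup X) := by
    rw [← hg, Sylow.coe_subgroup_smul]
    exact ⟨_, hP₀ (Subgroup.mem_zpowers _), rfl⟩
  letI act : MulAction (P : Subgroup X) (Fin 2 → K) :=
    { smul := fun q c => (((q : X) : SL(2, K)) : Matrix (Fin 2) (Fin 2) K) *ᵥ c
      one_smul := fun c => by
        show (((( 1 : (P : Subgroup X)) : X) : SL(2, K)) : Matrix (Fin 2) (Fin 2) K) *ᵥ c = c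
        simp
      mul_smul := fun q r c => by
        show (((( q * r : (P : Subgroup X)) : X) : SL(2, K)) : Matrix (Fin 2) (Fin 2) K) *ᵥ c = _
        simp only [Subgroup.coe_mul, coe_mul_sl]
        exact (Matrix.mulVec_mulVec _ _ _).symm }
  obtain ⟨v, hv, hv0⟩ : ∃ v : Fin 2 → K, v ∈ MulAction.fixedPoints (P : Subgroup X) (Fin 2 → K) ∧
      (0 : Fin 2 → K) ≠ v := by
    refine P.isPGroup'.exists_fixed_point_of_prime_dvd_card_of_fixed_point _ ?_ fun q =>
      Matrix.mulVec_zero _
    rw [Nat.card_pi]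
    obtain ⟨n, -, hn⟩ := FiniteField.card K p
    rw [Finset.prod_const, Nat.card_eq_fintype_card (α := K), hn, ← pow_mul]
    exact dvd_pow_self p (by simp)
  have hv1 : v 1 = 0 := by
    have h := congrFun (hv ⟨uz, hP (Subgroup.mem_zpowers _)⟩) 0
    change ((dsU z : SL(2, K)) : Matrix (Fin 2) (Fin 2) K).mulVec v 0 = v 0 at h
    simp [coe_dsU, Matrix.mulVec, dotProduct, Fin.sum_univ_two] at h
    exact h.resolve_left hz
  have hv0' : v 0 ≠ 0 := fun h => hv0 (by ext i; fin_cases i <;> simp [h, hv1])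
  set U := ((g * f (dsU 1) * g⁻¹ : X) : SL(2, K)) with hU
  obtain ⟨β, hβ⟩ : ∃ β : K, U = dsU β := by
    have h0 := congrFun (hv ⟨_, hgP⟩) 0
    have h1 := congrFun (hv ⟨_, hgP⟩) 1
    change (U : Matrix (Fin 2) (Fin 2) K).mulVec v 0 = v 0 at h0
    change (U : Matrix (Fin 2) (Fin 2) K).mulVec v 1 = v 1 at h1
    simp [Matrix.mulVec, dotProduct, Fin.sum_univ_two, hv1, hv0'] at h0 h1
    have hd := U.2
    rw [Matrix.det_fin_two, h0, h1] at hd
    simp at hd
    refine ⟨(U : Matrix (Fin 2) (Fin 2) K) 0 1, ?_⟩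
    ext i j
    fin_cases i <;> fin_cases j <;> simp [coe_dsU, h0, h1, hd]
  have hdsU1 : (dsU (1 : ZMod p)) ≠ 1 := fun h => by
    have := congrArg (fun q : SL(2, ZMod p) => (q : Matrix (Fin 2) (Fin 2) (ZMod p)) 0 1) h
    simp [coe_dsU] at this
  have hβ0 : β ≠ 0 := by
    rintro rfl
    rw [dsU_zero] at hβ
    have h1 : g * f (dsU 1) * g⁻¹ = 1 := Subtype.ext hβ
    rw [conj_eq_one_iff] at h1
    exact hdsU1 (hf (h1.trans (map_one f).symm))
  obtain ⟨r, hr⟩ := IsCyclic.exists_generator (α := (ZMod p)ˣ)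
  have hro : orderOf r = p - 1 := by
    rw [orderOf_eq_card_of_forall_mem_zpowers hr, Nat.card_eq_fintype_card, ZMod.card_units]
  let dg : SL(2, ZMod p) :=
    ⟨!![(r : ZMod p), 0; 0, (↑r⁻¹ : ZMod p)], by
      rw [Matrix.det_fin_two_of, mul_zero, sub_zero, Units.mul_inv]⟩
  have hdgpow : ∀ m : ℕ, (((dg ^ m : SL(2, ZMod p))) : Matrix (Fin 2) (Fin 2) (ZMod p)) =
      !![((r ^ m : (ZMod p)ˣ) : ZMod p), 0; 0, (((r ^ m)⁻¹ : (ZMod p)ˣ) : ZMod p)] := by
    intro m
    induction m with
    | zero =>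
      rw [pow_zero, pow_zero, inv_one, Units.val_one, ← Matrix.one_fin_two]
      rfl
    | succ m ih =>
      rw [pow_succ, coe_mul_sl, ih]
      show _ * !![(r : ZMod p), 0; 0, (↑r⁻¹ : ZMod p)] = _
      rw [Matrix.mul_fin_two, pow_succ r m, _root_.mul_inv, Units.val_mul, Units.val_mul]
      simp only [mul_zero, zero_mul, add_zero, zero_add]
  have hdg1 : dg ^ (p - 1) = 1 := by
    refine Subtype.ext ?_
    rw [hdgpow, ← hro, pow_orderOf_eq_one, inv_one, Units.val_one, ← Matrix.one_fin_two]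
    rfl
  set k : ℕ := ((r : ZMod p) * r).val with hk
  have hdgU : dg * dsU 1 = dsU 1 ^ k * dg := by
    rw [dsU_pow, mul_one, hk, ZMod.natCast_zmod_val]
    refine Subtype.ext ?_
    show !![(r : ZMod p), 0; 0, (↑r⁻¹ : ZMod p)] * !![1, 1; 0, 1] =
      !![1, (r : ZMod p) * r; 0, 1] * !![(r : ZMod p), 0; 0, (↑r⁻¹ : ZMod p)]
    rw [Matrix.mul_fin_two, Matrix.mul_fin_two]
    simp only [mul_zero, zero_mul, add_zero, zero_add, mul_one, one_mul, Units.mul_inv_cancel_right]
  have hk0 : (k : K) ≠ 0 := by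
    rw [Ne, CharP.cast_eq_zero_iff K p, ← ZMod.natCast_eq_zero_iff, hk, ZMod.natCast_zmod_val]
    exact mul_ne_zero r.ne_zero r.ne_zero
  set h : SL(2, K) := ((g * f dg * g⁻¹ : X) : SL(2, K)) with hh
  have hrel : h * dsU β = dsU β ^ k * h := by
    rw [← hβ, hh, hU, ← Subgroup.coe_mul, ← SubgroupClass.coe_pow, ← Subgroup.coe_mul, conj_pow,
      ← map_pow]
    congr 1
    simp only [mul_assoc, inv_mul_cancel_left]
    rw [← mul_assoc (f dg), ← map_mul, hdgU, map_mul, mul_assoc]
  have h10 : (h : Matrix (Fin 2) (Fin 2) K) 1 0 = 0 := by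
    have := congrArg (fun q : SL(2, K) => (q : Matrix (Fin 2) (Fin 2) K) 0 0) hrel
    simp [dsU_pow, coe_dsU, Matrix.mul_apply, Fin.sum_univ_two, hk0, hβ0] at this
    exact this
  set l : K := (h : Matrix (Fin 2) (Fin 2) K) 0 0 with hl
  have hdet : l * (h : Matrix (Fin 2) (Fin 2) K) 1 1 = 1 := by
    have := h.2
    rw [Matrix.det_fin_two, h10, mul_zero, sub_zero] at this
    exact this
  have hhpow : h ^ (p - 1) = 1 := by
    rw [hh, ← SubgroupClass.coe_pow, conj_pow, ← map_pow, hdg1, map_one, mul_one, mul_inv_cancel,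
      OneMemClass.coe_one]
  have hl1 : l ^ (p - 1) = 1 := by
    rw [hl, ← (coe_pow_zero_zero h10 (p - 1)).1, hhpow]; simp
  have hlp : l ^ p = l := by
    conv_lhs => rw [← Nat.sub_add_cancel hp.one_le, pow_succ, hl1, one_mul]
  obtain ⟨s, hs⟩ := exists_natCast_of_pow (p := p) hlp
  have hs0 : (s : ZMod p) ≠ 0 := by
    intro h0
    rw [ZMod.natCast_eq_zero_iff, ← CharP.cast_eq_zero_iff K p, hs] at h0
    rw [h0, zero_mul] at hdet
    exact zero_ne_one hdet
  have hso : orderOf (s : ZMod p) = p - 1 := by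
    refine Nat.dvd_antisymm (orderOf_dvd_of_pow_eq_one (ZMod.pow_card_sub_one_eq_one hs0)) ?_
    rw [← hro]
    refine orderOf_dvd_of_pow_eq_one ?_
    set m := orderOf (s : ZMod p)
    have hlm : l ^ m = 1 := by
      have := congrArg (ZMod.castHom (dvd_refl p) K) (pow_orderOf_eq_one (s : ZMod p))
      rwa [map_pow, map_natCast, map_one, hs] at this
    have hq : h ^ m = dsU (((h ^ m : SL(2, K)) : Matrix (Fin 2) (Fin 2) K) 0 1) := by
      obtain ⟨c0, c1, c2⟩ := coe_pow_zero_zero h10 m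
      have h11 : ((h : Matrix (Fin 2) (Fin 2) K) 1 1) ^ m = 1 := by
        have := congrArg (· ^ m) hdet
        simpa [mul_pow, hlm] using this
      ext i j
      fin_cases i <;> fin_cases j <;> simp [coe_dsU, c0, c1, c2, hlm, h11, ← hl]
    have h1 : h ^ m = 1 := by
      have hp1 : (h ^ m) ^ p = 1 := by rw [hq]; exact hup _
      have hp2' : (h ^ m) ^ (p - 1) = 1 := by rw [← pow_mul, mul_comm, pow_mul, hhpow, one_pow]
      have := pow_gcd_eq_one.2 ⟨hp1, hp2'⟩
      rwa [(Nat.coprime_self_sub_right hp.one_le).mpr (Nat.coprime_one_right p), pow_one] at this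
    rw [hh, ← SubgroupClass.coe_pow, conj_pow, OneMemClass.coe_eq_one, conj_eq_one_iff, ← map_pow,
      map_eq_one_iff f hf] at h1
    have := congrArg (fun q : SL(2, ZMod p) => (q : Matrix (Fin 2) (Fin 2) (ZMod p)) 0 0) h1
    simp [hdgpow] at this
    exact Units.ext (by simpa using this)
  set t : ℕ := s ^ (p - 2) with ht
  have hst : (s : ZMod p) * t = 1 := by
    rw [ht, Nat.cast_pow, ← pow_succ', show p - 2 + 1 = p - 1 by have := hp.two_le; omega]
    exact ZMod.pow_card_sub_one_eq_one hs0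
  have ht11 : (t : K) = (h : Matrix (Fin 2) (Fin 2) K) 1 1 := by
    have := congrArg (ZMod.castHom (dvd_refl p) K) hst
    rw [map_mul, map_natCast, map_natCast, map_one, hs] at this
    exact mul_left_cancel₀ (fun h0 => by rw [h0, zero_mul] at hdet; exact zero_ne_one hdet)
      (this.trans hdet.symm)
  by_cases hlt : l = (h : Matrix (Fin 2) (Fin 2) K) 1 1
  · obtain ⟨c0, c1, c2⟩ := coe_pow_zero_zero h10 p
    have c01 := coe_pow_zero_one h10 hlt.symm p
    rw [CharP.cast_eq_zero, zero_mul, zero_mul, mul_eq_zero] at c01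
    have hl0 : l ≠ 0 := fun h0 => by rw [h0, zero_mul] at hdet; exact zero_ne_one hdet
    refine ⟨h ^ p, X.pow_mem (SetLike.coe_mem _) _, s, t, 0, hso, hst, c1,
      by rw [c0, ← hl, hlp, hs], ?_⟩
    have c11 : ((h ^ p : SL(2, K)) : Matrix (Fin 2) (Fin 2) K) 1 1 = t := by
      rw [c2, ← hlt, hlp, ht11, hlt]
    have c01' := c01.resolve_right hl0
    generalize h ^ p = Hp at c01' c11 ⊢
    ext i
    fin_cases i <;>
      simp [-SpecialLinearGroup.coe_pow, Matrix.mulVec, dotProduct, Fin.sum_univ_two, c01', c11]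
  · refine ⟨h, SetLike.coe_mem _, s, t, (h : Matrix (Fin 2) (Fin 2) K) 0 1 / ((t : K) - l), hso, hst,
      h10, hs.symm, ?_⟩
    have hne : (t : K) - l ≠ 0 := by rw [ht11]; exact sub_ne_zero.2 (Ne.symm hlt)
    ext i
    fin_cases i <;> simp [Matrix.mulVec, dotProduct, Fin.sum_univ_two, ← hl, h10, ← ht11]
    field_simp
    ring

end Mat

/-! ### The module -/

variable {L : Type*} [Group L] {W : Type*} [AddCommGroup W] [Finite W]

theorem act_pair (σ : L →* AddMonoid.End W) (g h : L) (w : W) : σ (g * h) w = σ g (σ h w) := by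
  rw [map_mul]; rfl

theorem act_inj (σ : L →* AddMonoid.End W) (g : L) : Function.Injective (σ g) :=
  Function.LeftInverse.injective (g := σ g⁻¹) fun w => by
    rw [← act_pair, inv_mul_cancel, map_one]; rfl

/-- The stabilizer of a finite subgroup. -/
def stabSub (σ : L →* AddMonoid.End W) (R : AddSubgroup W) : Subgroup L where
  carrier := {l | ∀ x ∈ R, σ l x ∈ R}
  one_mem' := fun x hx => by rw [map_one]; exact hx
  mul_mem' := fun {a b} ha hb x hx => by rw [act_pair]; exact ha _ (hb x hx)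
  inv_mem' := fun {a} ha x hx => by
    obtain ⟨y, hy⟩ := (Finite.injective_iff_surjective.1 (fun u v h =>
      Subtype.ext (act_inj σ a (congrArg Subtype.val h)) :
        Function.Injective fun y : R => (⟨σ a y, ha y y.2⟩ : R))) ⟨x, hx⟩
    have hy' : σ a y = x := congrArg Subtype.val hy
    show σ a⁻¹ x ∈ R
    rw [← hy', ← act_pair, inv_mul_cancel, map_one]
    exact y.2

theorem invariant_of_pair (σ : L →* AddMonoid.End W) {a b : L}
    (hgen : Subgroup.closure {a, b} = ⊤) (R : AddSubgroup W) (ha : ∀ x ∈ R, σ a x ∈ R)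
    (hb : ∀ x ∈ R, σ b x ∈ R) (l : L) : ∀ x ∈ R, σ l x ∈ R := by
  have : Subgroup.closure {a, b} ≤ stabSub σ R := (Subgroup.closure_le _).2 (by
    rintro x (rfl | rfl) <;> assumption)
  exact this (hgen ▸ Subgroup.mem_top l)

/-- **Two quadratic elements on an irreducible module.** -/
theorem exists_torus {p : ℕ} [Fact p.Prime] (hp2 : p ≠ 2) (σ : L →* AddMonoid.End W)
    (hW : ∀ w : W, p • w = 0)
    (hirr : ∀ R : AddSubgroup W, (∀ l, ∀ x ∈ R, σ l x ∈ R) → R = ⊥ ∨ R = ⊤) {a b : L}
    (hgen : Subgroup.closure {a, b} = ⊤) (ha : ∀ w, σ a (σ a w - w) = σ a w - w)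
    (hb : ∀ w, σ b (σ b w - w) = σ b w - w) (hne : ∃ w, σ a w ≠ w) :
    ∃ (n j : L) (s t : ℕ) (u w : W), orderOf (s : ZMod p) = p - 1 ∧ (s : ZMod p) * t = 1 ∧
      (∀ x, σ j x = -x) ∧ (∀ x, σ a x = x → σ n x = s • x) ∧ σ n w = t • w ∧
      σ a w - w = u ∧ u ≠ 0 := by
  classical
  obtain ⟨w₀, hw₀⟩ := hne
  set A : AddMonoid.End W := σ a - 1 with hA
  set B : AddMonoid.End W := σ b - 1 with hB
  have hAv : ∀ w, A w = σ a w - w := fun w => rfl
  have hBv : ∀ w, B w = σ b w - w := fun w => rfl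
  have hAA : A * A = 0 := by
    refine AddMonoidHom.ext fun w => ?_
    show A (A w) = 0
    rw [hAv w, hAv, ha, sub_self]
  have hBB : B * B = 0 := by
    refine AddMonoidHom.ext fun w => ?_
    show B (B w) = 0
    rw [hBv w, hBv, hb, sub_self]
  set z : AddMonoid.End W := A * B + B * A with hzdef
  have hzA : A * z = z * A := by
    simp only [hzdef, mul_add, add_mul, ← mul_assoc, hAA, zero_mul]
    simp only [mul_assoc, hAA, mul_zero, add_zero, zero_add]
  have hzB : B * z = z * B := by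
    simp only [hzdef, mul_add, add_mul, ← mul_assoc, hBB, zero_mul]
    simp only [mul_assoc, hBB, mul_zero, add_zero, zero_add]
  set K := Subring.closure ({z} : Set (AddMonoid.End W)) with hK
  letI : CommRing K := Subring.closureCommRingOfComm (by simp)
  have hKA : ∀ k ∈ K, Commute A k ∧ Commute B k := fun k hk => by
    have : K ≤ Subring.centralizer {A, B} := (Subring.closure_le).2 (by
      rintro x rfl
      rw [SetLike.mem_coe, Subring.mem_centralizer_iff]
      rintro y (rfl | rfl)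
      exacts [hzA, hzB])
    have h := Subring.mem_centralizer_iff.1 (this hk)
    exact ⟨h A (by simp), h B (by simp)⟩
  have hsa : ∀ w, σ a w = w + A w := fun w => by rw [hAv]; abel
  have hsb : ∀ w, σ b w = w + B w := fun w => by rw [hBv]; abel
  have hinvR : ∀ R : AddSubgroup W, (∀ x ∈ R, A x ∈ R) → (∀ x ∈ R, B x ∈ R) →
      R = ⊥ ∨ R = ⊤ := fun R h1 h2 => hirr R (invariant_of_pair σ hgen R
      (fun x hx => by rw [hsa]; exact add_mem hx (h1 x hx))
      (fun x hx => by rw [hsb]; exact add_mem hx (h2 x hx)))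
  set v : W := A w₀ with hv
  have hv0 : v ≠ 0 := fun h => hw₀ (sub_eq_zero.1 h)
  have hAv0 : A v = 0 := by
    have := DFunLike.congr_fun hAA w₀
    exact this
  have hz0 : z ≠ 0 := by
    intro h0
    rcases hinvR (AddMonoidHom.ker (A : W →+ W)) (fun x hx => by
        show A (A x) = 0
        rw [show A x = 0 from hx, map_zero]) (fun x hx => by
        show A (B x) = 0
        have h1 : A (B x) + B (A x) = 0 := DFunLike.congr_fun h0 x
        rwa [show A x = 0 from hx, map_zero, add_zero] at h1) with h | h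
    · exact hv0 (AddSubgroup.mem_bot.1 (h.le hAv0))
    · exact hv0 (h.ge (AddSubgroup.mem_top w₀))
  have hkinj : ∀ k : K, k ≠ 0 → Function.Injective (k : AddMonoid.End W) := by
    intro k hk
    rw [injective_iff_map_eq_zero]
    intro x hx
    rcases hinvR (AddMonoidHom.ker ((k : AddMonoid.End W) : W →+ W)) (fun y hy => by
        show (k : AddMonoid.End W) (A y) = 0
        have := DFunLike.congr_fun (hKA k k.2).1.eq y
        change A ((k : AddMonoid.End W) y) = (k : AddMonoid.End W) (A y) at this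
        rw [← this, show (k : AddMonoid.End W) y = 0 from hy, map_zero]) (fun y hy => by
        show (k : AddMonoid.End W) (B y) = 0
        have := DFunLike.congr_fun (hKA k k.2).2.eq y
        change B ((k : AddMonoid.End W) y) = (k : AddMonoid.End W) (B y) at this
        rw [← this, show (k : AddMonoid.End W) y = 0 from hy, map_zero]) with h | h
    · exact AddSubgroup.mem_bot.1 (h.le hx)
    · refine absurd (Subtype.ext (AddMonoidHom.ext fun y => ?_)) hk
      have hy : (k : AddMonoid.End W) y = 0 := h.ge (AddSubgroup.mem_top y)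
      exact hy
  have hWn : Nontrivial W := ⟨⟨_, _, hw₀⟩⟩
  haveI : Finite (AddMonoid.End W) := Finite.of_injective (fun f => (f : W → W)) DFunLike.coe_injective
  haveI : Nontrivial K := ⟨⟨0, 1, fun h => hv0 (DFunLike.congr_fun (congrArg Subtype.val h) v).symm⟩⟩
  haveI : NoZeroDivisors K := ⟨fun {x y} hxy => by
    by_contra hcon
    push Not at hcon
    refine hcon.2 (Subtype.ext (AddMonoidHom.ext fun w => hkinj x hcon.1 ?_))
    have h1 : (x : AddMonoid.End W) ((y : AddMonoid.End W) w) = 0 :=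
      DFunLike.congr_fun (congrArg Subtype.val hxy) w
    exact h1.trans (map_zero (x : AddMonoid.End W)).symm⟩
  haveI : IsDomain K := NoZeroDivisors.to_isDomain K
  letI : Field K := (Finite.isDomain_to_isField K).toField
  haveI : CharP K p := (CharP.charP_iff_prime_eq_zero Fact.out).2 (Subtype.ext (by
    refine AddMonoidHom.ext fun w => ?_
    show ((p : AddMonoid.End W)) w = 0
    rw [AddMonoid.End.natCast_apply]
    exact hW w))
  let zK : K := ⟨z, Subring.subset_closure rfl⟩
  have hzK : zK ≠ 0 := fun h => hz0 (congrArg Subtype.val h)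
  have hABv : A (B v) = z v := by
    show _ = A (B v) + B (A v)
    rw [hAv0, map_zero, add_zero]
  have hBBv : B (B v) = 0 := DFunLike.congr_fun hBB v
  let Φ : (Fin 2 → K) →+ W := AddMonoidHom.mk'
    (fun c => (c 0 : AddMonoid.End W) v + (c 1 : AddMonoid.End W) (B v)) fun c d => by
      show ((c 0 : AddMonoid.End W) + (d 0 : AddMonoid.End W)) v +
        ((c 1 : AddMonoid.End W) + (d 1 : AddMonoid.End W)) (B v) = _
      show ((c 0 : AddMonoid.End W) v + (d 0 : AddMonoid.End W) v) +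
        ((c 1 : AddMonoid.End W) (B v) + (d 1 : AddMonoid.End W) (B v)) = _
      abel
  have hAΦ : ∀ c, A (Φ c) = ((c 1 * zK : K) : AddMonoid.End W) v := fun c => by
    show A ((c 0 : AddMonoid.End W) v + (c 1 : AddMonoid.End W) (B v)) = _
    have h0 := DFunLike.congr_fun (hKA _ (c 0).2).1.eq v
    have h1 := DFunLike.congr_fun (hKA _ (c 1).2).1.eq (B v)
    change A ((c 0 : AddMonoid.End W) v) = (c 0 : AddMonoid.End W) (A v) at h0
    change A ((c 1 : AddMonoid.End W) (B v)) = (c 1 : AddMonoid.End W) (A (B v)) at h1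
    rw [map_add, h0, h1, hAv0, map_zero, zero_add, hABv]
    rfl
  have hBΦ : ∀ c, B (Φ c) = (c 0 : AddMonoid.End W) (B v) := fun c => by
    show B ((c 0 : AddMonoid.End W) v + (c 1 : AddMonoid.End W) (B v)) = _
    have h0 := DFunLike.congr_fun (hKA _ (c 0).2).2.eq v
    have h1 := DFunLike.congr_fun (hKA _ (c 1).2).2.eq (B v)
    change B ((c 0 : AddMonoid.End W) v) = (c 0 : AddMonoid.End W) (B v) at h0
    change B ((c 1 : AddMonoid.End W) (B v)) = (c 1 : AddMonoid.End W) (B (B v)) at h1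
    rw [map_add, h0, h1, hBBv, map_zero, add_zero]
  have hker : ∀ c, A (Φ c) = 0 → c 1 = 0 := fun c h => by
    rw [hAΦ] at h
    by_contra hc
    exact hv0 (hkinj _ (mul_ne_zero hc hzK) (h.trans (map_zero _).symm))
  have hΦi : Function.Injective Φ := by
    rw [injective_iff_map_eq_zero]
    intro c hc
    have h1 := hker c (by rw [hc, map_zero])
    have h0 : c 0 = 0 := by
      by_contra h
      refine hv0 (hkinj _ h ?_)
      have : (c 0 : AddMonoid.End W) v + (c 1 : AddMonoid.End W) (B v) = 0 := hc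
      rw [h1] at this
      simpa using this
    ext i; fin_cases i <;> simp [h0, h1]
  have hactA : ∀ c, σ a (Φ c) = Φ (((dsU zK : SL(2, K)) : Matrix (Fin 2) (Fin 2) K) *ᵥ c) := fun c => by
    have e : ((dsU zK : SL(2, K)) : Matrix (Fin 2) (Fin 2) K) *ᵥ c = c + ![c 1 * zK, 0] := by
      ext i; fin_cases i <;> simp [coe_dsU, Matrix.mulVec, dotProduct, Fin.sum_univ_two, mul_comm]
    rw [hsa, hAΦ, e, map_add]
    congr 1
    show _ = ((c 1 * zK : K) : AddMonoid.End W) v + ((0 : K) : AddMonoid.End W) (B v)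
    simp
  have hactB : ∀ c, σ b (Φ c) = Φ (((dsL 1 : SL(2, K)) : Matrix (Fin 2) (Fin 2) K) *ᵥ c) := fun c => by
    have e : ((dsL (1 : K) : SL(2, K)) : Matrix (Fin 2) (Fin 2) K) *ᵥ c = c + ![0, c 0] := by
      ext i; fin_cases i <;> simp [coe_dsL, Matrix.mulVec, dotProduct, Fin.sum_univ_two, add_comm]
    rw [hsb, hBΦ, e, map_add]
    congr 1
    show _ = ((0 : K) : AddMonoid.End W) v + (c 0 : AddMonoid.End W) (B v)
    simp
  have hΦs : Function.Surjective Φ := by
    rcases hirr Φ.range (invariant_of_pair σ hgen _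
      (by rintro _ ⟨c, rfl⟩; exact ⟨_, (hactA c).symm⟩)
      (by rintro _ ⟨c, rfl⟩; exact ⟨_, (hactB c).symm⟩)) with h | h
    · refine absurd (AddSubgroup.mem_bot.1 (h.le ⟨![1, 0], rfl⟩)) (fun h' => hv0 ?_)
      simpa [Φ] using h'
    · exact AddMonoidHom.range_eq_top.1 h
  -- the representation by matrices
  let Real (l : L) (g : SL(2, K)) : Prop :=
    ∀ c, σ l (Φ c) = Φ ((g : Matrix (Fin 2) (Fin 2) K) *ᵥ c)
  have huniq : ∀ l g g', Real l g → Real l g' → g = g' := fun l g g' h h' => by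
    refine Subtype.ext (Matrix.ext_of_mulVec_single fun i => hΦi ?_)
    rw [← h, ← h']
  let S : Subgroup L :=
    { carrier := {l | ∃ g, Real l g}
      one_mem' := ⟨1, fun c => by rw [map_one]; simp⟩
      mul_mem' := fun {l l'} ⟨g, h⟩ ⟨g', h'⟩ => ⟨g * g', fun c => by
        rw [act_pair, h', h, Matrix.mulVec_mulVec, coe_mul_sl]⟩
      inv_mem' := fun {l} ⟨g, h⟩ => ⟨g⁻¹, fun c => by
        apply act_inj σ l
        rw [← act_pair, mul_inv_cancel, map_one, h, Matrix.mulVec_mulVec,
          ← coe_mul_sl, mul_inv_cancel]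
        simp⟩ }
  have hS : ∀ l, l ∈ S := fun l => by
    have : Subgroup.closure {a, b} ≤ S := (Subgroup.closure_le _).2 (by
      rintro x (rfl | rfl)
      exacts [⟨_, hactA⟩, ⟨_, hactB⟩])
    exact this (hgen ▸ Subgroup.mem_top l)
  choose φ hφ using hS
  let φh : L →* SL(2, K) := MonoidHom.mk' φ fun l l' => huniq (l * l') _ _ (hφ _) fun c => by
    rw [act_pair, hφ, hφ, Matrix.mulVec_mulVec, coe_mul_sl]
  have hrange : φh.range = Subgroup.closure {dsU zK, dsL 1} := by
    rw [MonoidHom.range_eq_map, ← hgen, MonoidHom.map_closure, Set.image_insert_eq,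
      Set.image_singleton, show φh a = dsU zK from huniq a _ _ (hφ a) hactA,
      show φh b = dsL 1 from huniq b _ _ (hφ b) hactB]
  obtain ⟨⟨j, hj⟩, M, ⟨n, hn⟩, s, t, x, hso, hst, hM10, hM00, hMw⟩ :=
    exists_torus_matrix (p := p) hp2 hzK hrange
  have hnat : ∀ (m : ℕ) (c : Fin 2 → K), Φ ((m : K) • c) = m • Φ c := fun m c => by
    rw [← map_nsmul, Nat.cast_smul_eq_nsmul]
  refine ⟨n, j, s, t, σ a (Φ ![x, 1]) - Φ ![x, 1], Φ ![x, 1], hso, hst, fun y => ?_, fun y hy => ?_,
    ?_, rfl, ?_⟩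
  · obtain ⟨c, rfl⟩ := hΦs y
    rw [hφ j c, show φ j = -1 from hj, ← map_neg]
    simp [Matrix.neg_mulVec]
  · obtain ⟨c, rfl⟩ := hΦs y
    have h1 := hker c (by rw [hAv, hy, sub_self])
    have e : ((φ n : SL(2, K)) : Matrix (Fin 2) (Fin 2) K) *ᵥ c = (s : K) • c := by
      rw [show φ n = M from hn]
      ext i
      fin_cases i <;> simp [Matrix.mulVec, dotProduct, Fin.sum_univ_two, h1, hM00, hM10]
    rw [hφ n c, e, hnat]
  · rw [hφ n, show φ n = M from hn, hMw, hnat]
  · rw [Ne, ← hAv]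
    intro h
    exact one_ne_zero (hker ![x, 1] h)

end CfsgLib.ZJFusion
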