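import Cfsg.Agent.Lib.ZJFusion.Pair
import Mathlib.GroupTheory.QuotientGroup.Basic

/-!
# A two-dimensional section with a torus element in a given subgroup

`exists_section`: if every proper subgroup of `L` over the quadratic element `a` lies in `M`, and `M`
fixes the subgroup `E` of the module, some element of `M` scales a vector of `E` and a pair `u`, `w`
modulo an invariant subgroup `D`.
-/

set_option autoImplicit false

namespace CfsgLib.ZJFusion

theorem end_ext {A : Type*} [AddCommGroup A] {f g : AddMonoid.End A} (h : ∀ v, f v = g v) : f = g :=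
  DFunLike.ext f g h

section Invariant

variable {L : Type*} [Group L] {U : Type*} [AddCommGroup U] [Finite U]

/-- The subgroups fixed by all elements. -/
def IsInv (σ : L →* AddMonoid.End U) (D : AddSubgroup U) : Prop := ∀ l, ∀ x ∈ D, σ l x ∈ D

variable (σ : L →* AddMonoid.End U)

omit [Finite U] in
theorem act_one_apply (x : U) : σ 1 x = x := by rw [map_one]; rfl

theorem sub_mem_of_conj {D : AddSubgroup U} (hD : IsInv σ D) {a x : L} {v : U}
    (h : σ a (σ x⁻¹ v) - σ x⁻¹ v ∈ D) : σ (x * a * x⁻¹) v - v ∈ D := by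
  have h1 := hD x _ h
  rwa [map_sub, ← act_pair, ← act_pair, ← act_pair, mul_inv_cancel, act_one_apply] at h1

/-- The elements acting trivially on `W` modulo `D`. -/
def trivOn (W D : AddSubgroup U) (hW : IsInv σ W) (hD : IsInv σ D) : Subgroup L where
  carrier := {l | ∀ x ∈ W, σ l x - x ∈ D}
  one_mem' := fun x _ => by rw [act_one_apply, sub_self]; exact zero_mem D
  mul_mem' := fun {g h} hg hh x hx => by
    have h1 : σ g (σ h x) - x = (σ g (σ h x) - σ h x) + (σ h x - x) := by abel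
    rw [act_pair, h1]
    exact add_mem (hg _ (hW h x hx)) (hh x hx)
  inv_mem' := fun {g} hg x hx => by
    have h1 := hg _ (hW g⁻¹ x hx)
    rw [← act_pair, mul_inv_cancel, act_one_apply] at h1
    simpa using neg_mem h1

/-- The action on `W / D`. -/
def quotRep (W D : AddSubgroup U) (hW : IsInv σ W) (hD : IsInv σ D) :
    L →* AddMonoid.End (W ⧸ D.addSubgroupOf W) where
  toFun l := QuotientAddGroup.map _ _
    (((σ l : U →+ U).comp W.subtype).codRestrict W fun x => hW l x x.2)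
    (fun x hx => hD l x hx)
  map_one' := AddMonoidHom.ext fun x => by
    induction x using QuotientAddGroup.induction_on with
    | H x => exact congrArg QuotientAddGroup.mk (Subtype.ext (act_one_apply σ x))
  map_mul' g h := AddMonoidHom.ext fun x => by
    induction x using QuotientAddGroup.induction_on with
    | H x => exact congrArg QuotientAddGroup.mk (Subtype.ext (act_pair σ g h x))

theorem quotRep_mk {W D : AddSubgroup U} (hW : IsInv σ W) (hD : IsInv σ D) (l : L) (x : W) :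
    quotRep σ W D hW hD l (QuotientAddGroup.mk x) = QuotientAddGroup.mk ⟨σ l x, hW l x x.2⟩ := rfl

omit [Finite U] in
theorem mk_eq_mk_iff {W D : AddSubgroup U} {x y : W} :
    (QuotientAddGroup.mk x : W ⧸ D.addSubgroupOf W) = QuotientAddGroup.mk y ↔ (x : U) - y ∈ D := by
  rw [QuotientAddGroup.eq_iff_sub_mem]
  rfl

end Invariant

variable {L : Type*} [Group L] {U : Type*} [AddCommGroup U] [Finite U]
variable {p : ℕ} [Fact p.Prime]

/-- **The section lemma.** -/
theorem exists_section (hp2 : p ≠ 2) (σ : L →* AddMonoid.End U)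
    (hU : ∀ x : U, ∃ k : ℕ, p ^ k • x = 0) {M : Subgroup L} (hM : M ≠ ⊤) {a : L}
    (haM : a ∈ M) (hcover : ∀ R : Subgroup L, a ∈ R → R ≠ ⊤ → R ≤ M)
    (hgen : ∀ x, x ∉ M → Subgroup.closure {a, x * a * x⁻¹} = ⊤) (hker : ∀ l, σ l = 1 → l ∈ M)
    (hq : ∀ v, σ a (σ a v - v) = σ a v - v) (E : AddSubgroup U)
    (hE : ∀ m ∈ M, ∀ x ∈ E, σ m x ∈ E) (hEL : E = ⊤ ∨ ¬ IsInv σ E) :
    ∃ (D : AddSubgroup U) (n : L) (s t : ℕ) (u w y : U), IsInv σ D ∧ n ∈ M ∧
      orderOf (s : ZMod p) = p - 1 ∧ (s : ZMod p) * t = 1 ∧ u ∉ D ∧ p • u ∈ D ∧ p • w ∈ D ∧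
      σ a u - u ∈ D ∧ σ a w - w - u ∈ D ∧ σ n u - s • u ∈ D ∧ σ n w - t • w ∈ D ∧
      y ∈ E ∧ y ∉ D ∧ σ n y - s • y ∈ D := by
  classical
  haveI : Finite (AddSubgroup U) :=
    Finite.of_injective (fun D : AddSubgroup U => (D : Set U)) SetLike.coe_injective
  obtain ⟨x₀, hx₀⟩ : ∃ x, x ∉ M := by
    by_contra h
    push Not at h
    exact hM (eq_top_iff.2 fun x _ => h x)
  -- elements fixed by `a` and `x₀ a x₀⁻¹` are fixed by `L`
  have hgenle : ∀ R : Subgroup L, a ∈ R → x₀ * a * x₀⁻¹ ∈ R → R = ⊤ := fun R h1 h2 => by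
    rw [eq_top_iff, ← hgen x₀ hx₀]
    exact (Subgroup.closure_le _).2 (by rintro y (rfl | rfl) <;> assumption)
  -- Step 1: an element of `E` fixed by `a` but not by `L`, modulo an invariant subgroup
  obtain ⟨D₁, hD₁, t₀, ht₀E, ht₀a, ht₀L⟩ : ∃ D₁, IsInv σ D₁ ∧ ∃ t ∈ E, σ a t - t ∈ D₁ ∧
      ∃ l, σ l t - t ∉ D₁ := by
    rcases hEL with rfl | hEinv
    · refine ⟨⊥, fun l x hx => by rw [AddSubgroup.mem_bot.1 hx, map_zero]; exact zero_mem _, ?_⟩
      by_contra hcon
      push Not at hcon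
      simp only [AddSubgroup.mem_bot, sub_eq_zero] at hcon
      -- `L` fixes the fixed points of `a`
      have hfix : ∀ v l, σ l (σ a v - v) = σ a v - v := fun v =>
        hcon _ (AddSubgroup.mem_top _) (hq v)
      let Fx : AddSubgroup U :=
        { carrier := {x | ∀ l, σ l x = x}
          zero_mem' := fun l => map_zero _
          add_mem' := fun {x y} hx hy l => by rw [map_add, hx l, hy l]
          neg_mem' := fun {x} hx l => by rw [map_neg, hx l] }
      have hFx : IsInv σ Fx := fun l x hx => by rw [hx l]; exact hx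
      have htriv : ∀ l v, σ l v - v ∈ Fx := by
        have hT : trivOn σ ⊤ Fx (fun _ _ _ => trivial) hFx = ⊤ := by
          refine hgenle _ (fun v _ => ?_) fun v _ => sub_mem_of_conj σ hFx ?_ <;>
            exact hcon _ (AddSubgroup.mem_top _) (hq _)
        intro l v
        exact (hT.ge (Subgroup.mem_top l) : l ∈ trivOn σ ⊤ Fx _ hFx) v trivial
      have hadd : ∀ g h v, σ (g * h) v = σ g v + (σ h v - v) := fun g h v => by
        rw [act_pair, show σ h v = v + (σ h v - v) by abel, map_add, htriv h v g]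
        abel
      have hcomm : ∀ g h v, σ (g * h) v = σ (h * g) v := fun g h v => by
        rw [hadd, hadd]; abel
      have hconj : ∀ g l : L, σ (g * l * g⁻¹) = σ l := fun g l => end_ext fun v => by
        rw [hcomm, ← mul_assoc, inv_mul_cancel, one_mul]
      let R : Subgroup L :=
        { carrier := {l | ∃ g ∈ Subgroup.zpowers a, σ l = σ g}
          one_mem' := ⟨1, one_mem _, rfl⟩
          mul_mem' := fun {g h} ⟨g', hg', hg⟩ ⟨h', hh', hh⟩ =>
            ⟨g' * h', mul_mem hg' hh', by rw [map_mul, map_mul, hg, hh]⟩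
          inv_mem' := fun {g} ⟨g', hg', hg⟩ => ⟨g'⁻¹, inv_mem hg', by
            refine end_ext fun v => act_inj σ g ?_
            rw [← act_pair, mul_inv_cancel, hg, ← act_pair, mul_inv_cancel]⟩ }
      have hR : R = ⊤ := hgenle R ⟨a, Subgroup.mem_zpowers a, rfl⟩
        ⟨a, Subgroup.mem_zpowers a, hconj x₀ a⟩
      obtain ⟨g, hg, hgx⟩ := (hR.ge (Subgroup.mem_top x₀) : x₀ ∈ R)
      have h1 : x₀ * g⁻¹ ∈ M := hker _ (by
        rw [map_mul, hgx, ← map_mul, mul_inv_cancel, map_one])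
      have h2 := mul_mem h1 ((Subgroup.zpowers_le.2 haM) hg)
      rw [inv_mul_cancel_right] at h2
      exact hx₀ h2
    · obtain ⟨D₁, ⟨hD₁, hD₁E⟩, hmax⟩ := Set.exists_max_image
        {D : AddSubgroup U | IsInv σ D ∧ ¬ IsInv σ (E ⊔ D)} (fun D => Nat.card D) (Set.toFinite _)
        ⟨⊥, fun l x hx => by rw [AddSubgroup.mem_bot.1 hx, map_zero]; exact zero_mem _,
          by rwa [sup_bot_eq]⟩
      refine ⟨D₁, hD₁, ?_⟩
      by_contra hcon
      push Not at hcon
      let Fx : AddSubgroup U :=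
        { carrier := {x | ∀ l, σ l x - x ∈ D₁}
          zero_mem' := fun l => by rw [map_zero, sub_zero]; exact zero_mem _
          add_mem' := fun {x y} hx hy l => by
            rw [map_add, show σ l x + σ l y - (x + y) = (σ l x - x) + (σ l y - y) by abel]
            exact add_mem (hx l) (hy l)
          neg_mem' := fun {x} hx l => by
            rw [map_neg, show -σ l x - -x = -(σ l x - x) by abel]
            exact neg_mem (hx l) }
      have hD₁F : D₁ ≤ Fx := fun x hx l => sub_mem (hD₁ l x hx) hx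
      let R : AddSubgroup U := (E ⊔ D₁) ⊓ Fx
      have hD₁R : D₁ ≤ R := le_inf le_sup_right hD₁F
      have hR : IsInv σ R := fun l x hx => by
        rw [show σ l x = x + (σ l x - x) by abel]
        exact add_mem hx (hD₁R (hx.2 l))
      have hRle : R ≤ D₁ := by
        have h1 : E ⊔ R = E ⊔ D₁ :=
          le_antisymm (sup_le le_sup_left inf_le_left) (sup_le_sup_left hD₁R _)
        exact (AddSubgroup.eq_of_le_of_card_ge hD₁R (hmax R ⟨hR, by rwa [h1]⟩)).ge
      refine hD₁E fun l x hx => ?_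
      have hED : E ≤ D₁ := fun e he => by
        have h1 : σ a e - e ∈ D₁ :=
          hRle ⟨AddSubgroup.mem_sup_left (sub_mem (hE a haM e he) he),
            hcon _ (sub_mem (hE a haM e he) he) (by rw [hq, sub_self]; exact zero_mem _)⟩
        exact hRle ⟨AddSubgroup.mem_sup_left he, hcon e he h1⟩
      rw [sup_eq_right.2 hED] at hx ⊢
      exact hD₁ l x hx
  -- Step 2: a maximal invariant subgroup over `D₁` modulo which `t₀` is not fixed
  obtain ⟨D, ⟨hD, hD₁D, l₀, hl₀⟩, hmax⟩ := Set.exists_max_image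
    {D : AddSubgroup U | IsInv σ D ∧ D₁ ≤ D ∧ ∃ l, σ l t₀ - t₀ ∉ D} (fun D => Nat.card D)
    (Set.toFinite _) ⟨D₁, hD₁, le_rfl, ht₀L⟩
  have hta : σ a t₀ - t₀ ∈ D := hD₁D ht₀a
  let W : AddSubgroup U := D ⊔ AddSubgroup.closure (Set.range fun l => σ l t₀ - t₀)
  have hDW : D ≤ W := le_sup_left
  have hdW : ∀ l, σ l t₀ - t₀ ∈ W := fun l =>
    AddSubgroup.mem_sup_right (AddSubgroup.subset_closure ⟨l, rfl⟩)
  have hW : IsInv σ W := by
    intro m
    suffices h : W ≤ W.comap (σ m : U →+ U) from fun x hx => h hx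
    refine sup_le (fun x hx => hDW (hD m x hx)) ((AddSubgroup.closure_le _).2 ?_)
    rintro _ ⟨l, rfl⟩
    show σ m (σ l t₀ - t₀) ∈ W
    rw [map_sub, ← act_pair,
      show σ (m * l) t₀ - σ m t₀ = (σ (m * l) t₀ - t₀) - (σ m t₀ - t₀) by abel]
    exact sub_mem (hdW _) (hdW _)
  have hmin : ∀ D' : AddSubgroup U, IsInv σ D' → D ≤ D' → D' ≤ D ∨ W ≤ D' := by
    intro D' hD' hle
    by_cases h : ∃ l, σ l t₀ - t₀ ∉ D'
    · exact Or.inl (AddSubgroup.eq_of_le_of_card_ge hle (hmax D' ⟨hD', hD₁D.trans hle, h⟩)).ge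
    · push Not at h
      exact Or.inr (sup_le hle ((AddSubgroup.closure_le _).2 (by rintro _ ⟨l, rfl⟩; exact h l)))
  -- `p • W ≤ D`
  have hpW : ∀ x ∈ W, p • x ∈ D := by
    let f : U →+ U := nsmulAddMonoidHom p
    have hf : ∀ x, f x = p • x := fun x => rfl
    have hinv : IsInv σ (D ⊔ W.map f) := by
      intro l x hx
      obtain ⟨d, hd, _, ⟨v, hv, rfl⟩, rfl⟩ := AddSubgroup.mem_sup.1 hx
      rw [map_add, hf, map_nsmul, ← hf]
      exact AddSubgroup.add_mem_sup (hD l d hd) ⟨_, hW l v hv, rfl⟩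
    rcases hmin _ hinv le_sup_left with h | h
    · exact fun x hx => hf x ▸ h (AddSubgroup.mem_sup_right ⟨x, hx, rfl⟩)
    · suffices hWD : W ≤ D from absurd (hWD (hdW l₀)) hl₀
      intro x hx
      have key : ∀ k : ℕ, ∃ d ∈ D, ∃ v ∈ W, x = d + p ^ k • v := by
        intro k
        induction k with
        | zero => exact ⟨0, zero_mem _, x, hx, by rw [zero_add, pow_zero, one_nsmul]⟩
        | succ k ih =>
          obtain ⟨d, hd, v, hv, rfl⟩ := ih
          obtain ⟨d', hd', _, ⟨v', hv', rfl⟩, rfl⟩ := AddSubgroup.mem_sup.1 (h hv)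
          refine ⟨d + p ^ k • d', add_mem hd (nsmul_mem hd' _), v', hv', ?_⟩
          rw [nsmul_add, hf, ← mul_nsmul', ← pow_succ, add_assoc]
      obtain ⟨N, hN⟩ : ∃ N : ℕ, ∀ v : U, p ^ N • v = 0 := by
        choose k hk using hU
        have : Fintype U := Fintype.ofFinite U
        refine ⟨∑ v, k v, fun v => ?_⟩
        obtain ⟨c, hc⟩ := pow_dvd_pow p
          (Finset.single_le_sum (f := k) (fun i _ => Nat.zero_le _) (Finset.mem_univ v))
        rw [hc, mul_nsmul, hk, nsmul_zero]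
      obtain ⟨d, hd, v, -, rfl⟩ := key N
      rw [hN, add_zero]
      exact hd
  -- `a` acts non-trivially on `W / D`
  have hne : ∃ x ∈ W, σ a x - x ∉ D := by
    by_contra hcon
    push Not at hcon
    have hT : trivOn σ W D hW hD = ⊤ := hgenle _ hcon fun x hx =>
      sub_mem_of_conj σ hD (hcon _ (hW _ x hx))
    have htr : ∀ l, ∀ x ∈ W, σ l x - x ∈ D := fun l =>
      (hT.ge (Subgroup.mem_top l) : l ∈ trivOn σ W D hW hD)
    let R : Subgroup L :=
      { carrier := {l | σ l t₀ - t₀ ∈ D}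
        one_mem' := by
          show σ 1 t₀ - t₀ ∈ D
          rw [act_one_apply, sub_self]
          exact zero_mem _
        mul_mem' := fun {g h} hg hh => by
          show σ (g * h) t₀ - t₀ ∈ D
          rw [act_pair, show σ g (σ h t₀) - t₀ = (σ g (σ h t₀) - σ g t₀) + (σ g t₀ - t₀) by abel,
            ← map_sub]
          exact add_mem (hD g _ hh) hg
        inv_mem' := fun {g} hg => by
          show σ g⁻¹ t₀ - t₀ ∈ D
          have h1 := hD g⁻¹ _ hg
          rw [map_sub, ← act_pair, inv_mul_cancel, act_one_apply] at h1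
          rw [← neg_sub]
          exact neg_mem h1 }
    refine hl₀ ((hgenle R hta ?_).ge (Subgroup.mem_top l₀) : l₀ ∈ R)
    refine sub_mem_of_conj σ hD ?_
    have h1 := htr a _ (hdW x₀⁻¹)
    rw [map_sub, show σ a (σ x₀⁻¹ t₀) - σ a t₀ - (σ x₀⁻¹ t₀ - t₀) =
      (σ a (σ x₀⁻¹ t₀) - σ x₀⁻¹ t₀) - (σ a t₀ - t₀) by abel] at h1
    simpa using add_mem h1 hta
  -- the torus on `W / D`
  set τ := quotRep σ W D hW hD
  let πq : W →+ W ⧸ D.addSubgroupOf W := QuotientAddGroup.mk' _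
  have hτq : ∀ (l : L) (x : W), τ l (πq x) = πq x ↔ σ l x - x ∈ D := fun l x =>
    mk_eq_mk_iff (x := ⟨σ l x, hW l x x.2⟩) (y := x)
  have hquad : ∀ g : L, (∀ v, σ g (σ g v - v) = σ g v - v) →
      ∀ q, τ g (τ g q - q) = τ g q - q := by
    intro g hg q
    obtain ⟨x, rfl⟩ := QuotientAddGroup.mk'_surjective _ q
    show τ g (τ g (πq x) - πq x) = τ g (πq x) - πq x
    exact congrArg πq (Subtype.ext (hg (x : U)) :
      (⟨σ g (σ g x - x), hW g _ (sub_mem (hW g x x.2) x.2)⟩ : W) = ⟨σ g x, hW g x x.2⟩ - x)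
  have hqb : ∀ v, σ (x₀ * a * x₀⁻¹) (σ (x₀ * a * x₀⁻¹) v - v) = σ (x₀ * a * x₀⁻¹) v - v := by
    intro v
    have h1 := congrArg (σ x₀) (hq (σ x₀⁻¹ v))
    simp only [map_sub, ← act_pair, mul_inv_cancel, act_one_apply, mul_assoc, inv_mul_cancel_left]
      at h1 ⊢
    exact h1
  obtain ⟨n, j, s, t, qu, qw, hso, hst, hj, hns, hnw, hau, hu0⟩ := exists_torus hp2 τ
    (fun q => by
      obtain ⟨x, rfl⟩ := QuotientAddGroup.mk'_surjective _ q
      rw [← map_nsmul]
      exact (QuotientAddGroup.eq_zero_iff _).2 (hpW x x.2))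
    (fun R hR => by
      have hinv : IsInv σ ((R.comap πq).map W.subtype ⊔ D) := by
        intro l x hx
        obtain ⟨_, ⟨v, hv, rfl⟩, d, hd, rfl⟩ := AddSubgroup.mem_sup.1 hx
        rw [map_add]
        exact AddSubgroup.add_mem_sup ⟨⟨σ l v, hW l v v.2⟩, hR l _ hv, rfl⟩ (hD l d hd)
      rcases hmin _ hinv le_sup_right with h | h
      · left
        rw [eq_bot_iff]
        intro q hq'
        obtain ⟨x, rfl⟩ := QuotientAddGroup.mk'_surjective _ q
        exact (QuotientAddGroup.eq_zero_iff x).2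
          (h (AddSubgroup.mem_sup_left ⟨x, hq', rfl⟩))
      · right
        rw [eq_top_iff]
        intro q _
        obtain ⟨x, rfl⟩ := QuotientAddGroup.mk'_surjective _ q
        obtain ⟨_, ⟨v, hv, rfl⟩, d, hd, he⟩ := AddSubgroup.mem_sup.1 (h x.2)
        have h1 : πq x = πq v := mk_eq_mk_iff.2 (by
          rw [← he, show (W.subtype v + d) - (v : U) = d by simp]; exact hd)
        show πq x ∈ R
        rw [h1]
        exact hv)
    (hgen x₀ hx₀) (hquad a hq) (hquad _ hqb) (by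
      obtain ⟨x, hx, hxD⟩ := hne
      exact ⟨πq ⟨x, hx⟩, fun h => hxD ((hτq a _).1 h)⟩)
  -- the stabilizer of the fixed line lies in `M`
  let Fa : AddSubgroup (W ⧸ D.addSubgroupOf W) :=
    { carrier := {q | τ a q = q}
      zero_mem' := map_zero _
      add_mem' := fun {x y} hx hy => by
        show τ a (x + y) = x + y
        rw [map_add, show τ a x = x from hx, show τ a y = y from hy]
      neg_mem' := fun {x} hx => by
        show τ a (-x) = -x
        rw [map_neg, show τ a x = x from hx] }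
  have hFtop : Fa ≠ ⊤ := fun h => hu0 (by
    rw [← hau, show τ a qw = qw from h.ge (AddSubgroup.mem_top qw), sub_self])
  have hstab : stabSub τ Fa ≤ M := by
    refine hcover _ (fun x hx => ?_) fun he => ?_
    · show τ a (τ a x) = τ a x
      rw [show τ a x = x from hx, show τ a x = x from hx]
    · have hFa : ∀ x, x ∈ Fa → ∀ l, τ l x ∈ Fa := fun x hx l =>
        (he.ge (Subgroup.mem_top l) : l ∈ stabSub τ Fa) x hx
      refine hFtop (eq_top_iff.2 fun q _ => ?_)
      -- `Fa` is invariant and contains `qu ≠ 0`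
      obtain ⟨x, rfl⟩ := QuotientAddGroup.mk'_surjective _ q
      have hinv : IsInv σ ((Fa.comap πq).map W.subtype ⊔ D) := by
        intro l z hz
        obtain ⟨_, ⟨v, hv, rfl⟩, d, hd, rfl⟩ := AddSubgroup.mem_sup.1 hz
        rw [map_add]
        exact AddSubgroup.add_mem_sup ⟨⟨σ l v, hW l v v.2⟩, hFa _ hv l, rfl⟩ (hD l d hd)
      rcases hmin _ hinv le_sup_right with h | h
      · obtain ⟨u', rfl⟩ := QuotientAddGroup.mk'_surjective _ qu
        refine absurd ((QuotientAddGroup.eq_zero_iff u').2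
          (h (AddSubgroup.mem_sup_left ⟨u', ?_, rfl⟩))) hu0
        show τ a (πq u') = πq u'
        rw [show πq u' = τ a qw - qw from hau.symm]
        exact hquad a hq qw
      · obtain ⟨_, ⟨v, hv, rfl⟩, d, hd, he'⟩ := AddSubgroup.mem_sup.1 (h x.2)
        show πq x ∈ Fa
        rw [show πq x = πq v from mk_eq_mk_iff.2 (by
          rw [← he', show (W.subtype v + d) - (v : U) = d by simp]; exact hd)]
        exact hv
  have hnM : n ∈ M := hstab fun x hx => by
    show τ a (τ n x) = τ n x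
    rw [hns x hx, map_nsmul, show τ a x = x from hx]
  obtain ⟨u, rfl⟩ := QuotientAddGroup.mk'_surjective _ qu
  obtain ⟨w, rfl⟩ := QuotientAddGroup.mk'_surjective _ qw
  have huD : (u : U) ∉ D := fun h => hu0 ((QuotientAddGroup.eq_zero_iff u).2 h)
  have huA : τ a (πq u) = πq u := by
    rw [show πq u = τ a (πq w) - πq w from hau.symm]
    exact hquad a hq _
  have haw : σ a w - w - u ∈ D :=
    mk_eq_mk_iff.1 (hau : πq (⟨σ a w, hW a w w.2⟩ - w) = πq u)
  have hnu : σ n u - s • (u : U) ∈ D :=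
    mk_eq_mk_iff.1 ((hns _ huA).trans (map_nsmul πq s u).symm : πq ⟨σ n u, hW n u u.2⟩ = πq (s • u))
  have hnw' : σ n w - t • (w : U) ∈ D :=
    mk_eq_mk_iff.1 (hnw.trans (map_nsmul πq t w).symm : πq ⟨σ n w, hW n w w.2⟩ = πq (t • w))
  by_cases hm : ∃ m ∈ M, σ m t₀ - t₀ ∉ D
  · obtain ⟨m, hmM, hmD⟩ := hm
    obtain ⟨y, hyW, hyE, hyD, hya⟩ : ∃ y ∈ W, y ∈ E ∧ y ∉ D ∧ σ a y - y ∈ D := by
      have hzE := sub_mem (hE m hmM _ ht₀E) ht₀E
      by_cases hz : σ a (σ m t₀ - t₀) - (σ m t₀ - t₀) ∈ D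
      · exact ⟨_, hdW m, hzE, hmD, hz⟩
      · exact ⟨_, sub_mem (hW a _ (hdW m)) (hdW m), sub_mem (hE a haM _ hzE) hzE, hz,
          by rw [hq, sub_self]; exact zero_mem _⟩
    have hny : σ n y - s • y ∈ D :=
      mk_eq_mk_iff.1 ((hns _ ((hτq a ⟨y, hyW⟩).2 hya)).trans (map_nsmul πq s _).symm :
        πq ⟨σ n y, hW n y hyW⟩ = πq (s • ⟨y, hyW⟩))
    exact ⟨D, n, s, t, u, w, y, hD, hnM, hso, hst, huD, hpW u u.2, hpW w w.2, (hτq a u).1 huA,
      haw, hnu, hnw', hyE, hyD, hny⟩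
  · exfalso
    push Not at hm
    have hjM : j ∈ M := hstab fun x hx => by
      show τ a (τ j x) = τ j x
      rw [hj, map_neg, show τ a x = x from hx]
    have hk : j * l₀ * j⁻¹ * l₀⁻¹ ∈ M := by
      refine hstab fun q hq' => ?_
      have e1 : ∀ y, τ j⁻¹ y = -y := fun y => act_inj τ j (by
        rw [← act_pair, mul_inv_cancel, map_one, hj, neg_neg]; rfl)
      have e : τ (j * l₀ * j⁻¹ * l₀⁻¹) q = q := by
        rw [act_pair, act_pair, act_pair, e1, map_neg, ← act_pair, mul_inv_cancel, map_one, hj,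
          neg_neg]
        rfl
      rw [e]
      exact hq'
    have hjW : ∀ x ∈ W, σ j x + x ∈ D := fun x hx => by
      have h : (σ j x : U) - -x ∈ D :=
        mk_eq_mk_iff.1 (hj (πq ⟨x, hx⟩) : πq ⟨σ j x, hW j x hx⟩ = πq (-⟨x, hx⟩))
      rwa [sub_neg_eq_add] at h
    have hjinv := hm _ (inv_mem hjM)
    have h1 : σ (j * l₀ * j⁻¹) t₀ - t₀ + (σ l₀ t₀ - t₀) ∈ D := by
      rw [act_pair, act_pair, show σ j (σ l₀ (σ j⁻¹ t₀)) - t₀ + (σ l₀ t₀ - t₀) =
        (σ j (σ l₀ (σ j⁻¹ t₀)) - σ j (σ l₀ t₀)) + (σ j (σ l₀ t₀) - σ j t₀ + (σ l₀ t₀ - t₀)) +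
          (σ j t₀ - t₀) by abel, ← map_sub, ← map_sub, ← map_sub]
      exact add_mem (add_mem (hD j _ (hD l₀ _ hjinv)) (hjW _ (hdW l₀))) (hm j hjM)
    have hkW : σ (j * l₀ * j⁻¹ * l₀⁻¹) (σ l₀ t₀ - t₀) - (σ l₀ t₀ - t₀) ∈ D := by
      refine (hτq _ ⟨_, hdW l₀⟩).1 ?_
      have e1 : ∀ y, τ j⁻¹ y = -y := fun y => act_inj τ j (by
        rw [← act_pair, mul_inv_cancel, map_one, hj, neg_neg]; rfl)
      rw [act_pair, act_pair, act_pair, e1, map_neg, ← act_pair, mul_inv_cancel, map_one, hj,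
        neg_neg]
      rfl
    rw [map_sub, ← act_pair, inv_mul_cancel_right,
      show σ (j * l₀ * j⁻¹) t₀ - σ (j * l₀ * j⁻¹ * l₀⁻¹) t₀ - (σ l₀ t₀ - t₀) =
        (σ (j * l₀ * j⁻¹) t₀ - t₀ - (σ l₀ t₀ - t₀)) - (σ (j * l₀ * j⁻¹ * l₀⁻¹) t₀ - t₀) by abel]
      at hkW
    have h2 := sub_mem h1 (add_mem hkW (hm _ hk))
    rw [sub_add_cancel, show σ (j * l₀ * j⁻¹) t₀ - t₀ + (σ l₀ t₀ - t₀) -
      (σ (j * l₀ * j⁻¹) t₀ - t₀ - (σ l₀ t₀ - t₀)) = 2 • (σ l₀ t₀ - t₀) by abel] at h2
    refine hl₀ ?_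
    obtain ⟨c, hc⟩ := (Fact.out : p.Prime).odd_of_ne_two hp2
    have h3 := sub_mem (hpW _ (hdW l₀)) (nsmul_mem h2 c)
    generalize hd : σ l₀ t₀ - t₀ = d at h3
    rw [hc, succ_nsmul, ← mul_nsmul', mul_comm 2 c, add_sub_cancel_left] at h3
    exact h3

end CfsgLib.ZJFusion
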